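import Cfsg.Agent.H1.Brauer4
import Cfsg.Agent.H1.Frobenius
import Cfsg.Agent.H2.Meta
import Cfsg.Agent.FT.P.BG01
import Cfsg.Agent.FT.P.U2
import Cfsg.Agent.FT.PFDefs2

/-! Groups with metacyclic Sylow 2-subgroups. -/

set_option autoImplicit false

namespace Cfsg.Agent.FT.M2

open Subgroup
open scoped commutatorElement IsMulCommutative

universe u

variable {G : Type u} [Group G] [Finite G] {K M N Q S V X : Subgroup G} {a g t x y : G}

theorem cyc (hK : IsCyclic K) (h2 : IsPGroup 2 K) (hX : X ≤ 𝐍(K)) (ho : PiG {2}ᶜ X) : X ≤ 𝐂(K) :=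
  relIndex_eq_one.1 (Nat.dvd_one.1 (relIndex_cent_dvd_of_cyclic_pgroup hK h2 hX ho))

theorem four (hV : IsMulCommutative V) (h2 : IsPGroup 2 V) (h4 : ♯V ≤ 4) (hX : X ≤ 𝐍(V))
    (ho : PiG {2}ᶜ X) (h : V ⊓ 𝐂(X) ≠ ⊥) : X ≤ 𝐂(V) := by
  have d := dp_of_coprime_comm hX (coprime_of_isPGroup h2 ho).symm hV
  have h1 := d.card
  have h3 := one_lt_card.2 h
  have h5 := card_pos' ⁅V, X⁆
  have h6 : IsCyclic ↥⁅V, X⁆ := by
    rcases (by have : ♯⁅V, X⁆ ≤ 2 := by nlinarith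
               omega : ♯⁅V, X⁆ = 1 ∨ ♯⁅V, X⁆ = 2) with e | e
    · rw [card_eq_one_iff.1 e]; infer_instance
    · exact isCyclic_of_card_prime (e ▸ Nat.prime_two)
  exact le_cent_iff_commutator'.2 (le_bot_iff.1 (d.inf ▸ le_inf (le_inf d.le_right (cent_symm
    (cyc h6 (isPGroup_of_le d.le_right h2) (right_le_normalizer_commutator _ _) ho))) le_rfl))

theorem L1 (h2 : IsPGroup 2 Q) (hX : X ≤ 𝐍(Q)) (ho : PiG {2}ᶜ X) (e : ⁅Q, X⁆ = Q) (hK : Q ≤ 𝐍(K))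
    (hXK : X ≤ 𝐍(K)) (h : Q ≤ K ⊔ zpowers g) (hg : g ∈ Q) : Q ≤ K := by
  have c : IsCyclic (bar K Q) := isCyclic_of_le' (X := bar K Q) (Y := zpowers (coset K g)) (by
    rw [← bar_zpowers (hK hg), bar_le_bar_iff hK (zpowers_le.2 (hK hg)), sup_comm]; exact h)
    inferInstance
  have := cyc c (isPGroup_bar h2 K) (bar_le_normalizer K hX) (ho.bar K)
  rwa [bar_le_cent_iff hXK hK, commutator_comm, e] at this

theorem powK (h2 : IsPGroup 2 Q) (hX : X ≤ 𝐍(Q)) (ho : PiG {2}ᶜ X) (e : ⁅Q, X⁆ = Q)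
    (hM : X ≤ 𝐍(M)) {n : ℕ} (h1 : ∀ y ∈ Q, ∀ z ∈ Q, y ^ n ∈ M → z ^ n ∈ M → (y * z) ^ n ∈ M)
    (hD : ∀ d ∈ ⁅Q, Q⁆, d ^ n ∈ M) (hg : g ∈ Q) (h : ∀ y ∈ Q, ∃ k : ℤ, (y * g ^ k) ^ n ∈ M) :
    ∀ y ∈ Q, y ^ n ∈ M := by
  let K : Subgroup G :=
    { carrier := {y | y ∈ Q ∧ y ^ n ∈ M}
      mul_mem' := fun a b => ⟨Q.mul_mem a.1 b.1, h1 _ a.1 _ b.1 a.2 b.2⟩
      one_mem' := ⟨Q.one_mem, by simp⟩
      inv_mem' := fun a => ⟨Q.inv_mem a.1, by simpa using a.2⟩ }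
  refine fun y hy => (L1 (K := K) h2 hX ho e (nrm_of_der_le (H := K)
    (fun d hd => ⟨der_le Q hd, hD d hd⟩) fun _ h => h.1).norm (le_normalizer_of_conj_mem fun x hx y hy =>
      ⟨conj_mem_of_le_normalizer hX hx hy.1, by
        rw [conj_pow]; exact conj_mem_of_le_normalizer hM hx hy.2⟩) (fun y hy => ?_) hg hy).2
  obtain ⟨k, hk⟩ := h y hy
  simpa using mul_mem (mem_sup_left (T := zpowers g) (show y * g ^ k ∈ K from
    ⟨Q.mul_mem hy (Q.zpow_mem hg k), hk⟩)) (mem_sup_right (zpow_mem_zpowers g (-k)))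

theorem ord4 (h2 : IsPGroup 2 Q) (hx : x ∈ Q) (h : x ^ 2 ≠ 1) :
    ∃ a ∈ zpowers x, a ^ 4 = 1 ∧ a ^ 2 ≠ 1 := by
  obtain ⟨k, hk⟩ := isPGroup_iff_mem.1 h2 _ (Q.pow_mem hx 2)
  obtain ⟨j, h1, h3⟩ := H2.exists_pow_not_mem_pow_mem (M := ⊥) (by simpa using h) (k := k)
    (by simpa using hk)
  exact ⟨x ^ 2 ^ j, npow_mem_zpowers _ _, by
    rw [← mem_bot.1 h3, ← pow_mul, ← pow_mul, ← pow_mul]; congr 1; ring,
    by simpa [← pow_mul, mul_comm] using h1⟩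

/-- a metacyclic 2-group with a large cyclic quotient -/
structure MC (S N : Subgroup G) : Prop where
  two : IsPGroup 2 S
  nrm : N ⊴ S
  cyc : IsCyclic N
  quo : IsCyclic (bar N S)
  big : 2 < N.relIndex S

theorem exists_gen (h : Q ≤ 𝐍(K)) (hc : IsCyclic (bar K Q)) : ∃ g ∈ Q, Q ≤ K ⊔ zpowers g := by
  obtain ⟨z, hz⟩ := (Subgroup.isCyclic_iff_exists_zpowers_eq_top _).1 hc
  obtain ⟨g, hg, rfl⟩ := (mem_bar' h).1 (hz ▸ mem_zpowers z)
  exact ⟨g, hg, by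
    rw [sup_comm, ← bar_le_bar_iff h (zpowers_le.2 (h hg)), bar_zpowers (h hg), hz]⟩

theorem elim (h : g ∈ 𝐍(K)) (hy : y ∈ K ⊔ zpowers g) : ∃ n ∈ K, ∃ k : ℤ, n * g ^ k = y := by
  obtain ⟨n, hn, _, ⟨k, rfl⟩, e⟩ := (mem_sup_of_le_normalizer' (zpowers_le.2 h)).1 hy
  exact ⟨n, hn, k, e⟩

theorem MC.der (h : MC S N) : ⁅S, S⁆ ≤ N := (comm_bar_iff h.nrm.norm).1 (comm_of_isCyclic h.quo)
theorem MC.comm (h : MC S N) (ha : a ∈ N) (hy : y ∈ N) : Commute a y :=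
  mem_cent_iff.1 (comm_iff_le_cent.1 (comm_of_isCyclic h.cyc) hy) a ha

theorem MC.gen_or (h : MC S N) (hy : y ∈ S) :
    S ≤ N ⊔ zpowers y ∨ ∀ a ∈ N, a ^ 4 = 1 → Commute a y := by
  obtain ⟨g, hg, e⟩ := exists_gen h.nrm.norm h.quo
  obtain ⟨n, hn, k, rfl⟩ := elim (h.nrm.norm hg) (e hy)
  rcases Int.even_or_odd' k with ⟨j, rfl | rfl⟩
  · refine .inr fun a ha h4 => (h.comm ha hn).mul_right ?_
    rw [zpow_mul]
    refine Commute.zpow_right ?_ j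
    obtain ⟨i, hi⟩ : g * a * g⁻¹ ∈ zpowers a := conj_mem_of_mem_normalizer
      (normalizer_le_of_le_cyclic h.cyc (zpowers_le.2 ha) (h.nrm.norm hg)) (mem_zpowers a)
    have e2 : g * (g * a * g⁻¹) * g⁻¹ = a ^ (i * i) := by rw [← hi, ← conj_zpow, ← hi, zpow_mul]
    have h4' : ∀ m : ℤ, a ^ (4 * m) = 1 := fun m => by rw [zpow_mul]; norm_cast; rw [h4, one_zpow]
    rcases Int.even_or_odd' i with ⟨l, rfl | rfl⟩
    · rw [show 2 * l * (2 * l) = 4 * (l * l) by ring, h4'] at e2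
      simp only [conj_eq_one_iff] at e2; simp [e2]
    · rw [show (2 * l + 1) * (2 * l + 1) = 4 * (l * l + l) + 1 by ring, zpow_add, h4'] at e2
      rw [Commute, SemiconjBy, zpow_two]
      conv_lhs => rw [← zpow_one a, ← one_mul (a ^ (1 : ℤ)), ← e2]
      group
  · refine .inl (e.trans (sup_le le_sup_left (zpowers_le.2 ?_)))
    have h1 : g ^ (2 * j + 1) ∈ N ⊔ zpowers (n * g ^ (2 * j + 1)) := by
      simpa using mul_mem (mem_sup_left (T := zpowers (n * g ^ (2 * j + 1))) (inv_mem hn))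
        (mem_sup_right (mem_zpowers _))
    obtain ⟨m, hm⟩ := isPGroup_iff_mem.1 h.two g hg
    obtain ⟨r, hr⟩ := (Nat.dvd_prime_pow Nat.prime_two).1 (orderOf_dvd_of_pow_eq_one hm)
    refine zpowers_le.2 h1 (mem_zpowers_zpow_iff.2 ?_)
    rw [hr.2]
    exact Int.isCoprime_iff_gcd_eq_one.1 (by
      push_cast; exact IsCoprime.pow_right ⟨1, -j, by ring⟩)

theorem MC.cent (h : MC S N) (hy : y ∈ S) (h2 : y ^ 2 ∈ N) (ha : a ∈ N) (h4 : a ^ 4 = 1) :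
    Commute a y := (h.gen_or hy).resolve_left (fun e => by
  have := h.big
  rw [← card_bar h.nrm.norm] at this
  have h3 := card_le_of_le' ((bar_le_bar_iff h.nrm.norm (zpowers_le.2 (h.nrm.norm hy))).2
    (sup_comm N _ ▸ e))
  rw [bar_zpowers (h.nrm.norm hy), Nat.card_zpowers] at h3
  have := orderOf_le_of_pow_eq_one two_pos
    ((coset_pow (h.nrm.norm hy) 2).symm.trans (coset_eq_one h2))
  omega) a ha h4

theorem MC.comm_of_odd (h : MC S N) (hQ : Q ≤ S) (hX : X ≤ 𝐍(Q)) (ho : PiG {2}ᶜ X)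
    (e : ⁅Q, X⁆ = Q) : IsMulCommutative Q := by
  have h2 := isPGroup_of_le hQ h.two
  have nN := hQ.trans h.nrm.norm
  have n0 : Q ⊓ N ⊴ Q := nrm_inf_of_le_normalizer nN
  have dN : ⁅Q, Q⁆ ≤ Q ⊓ N := le_inf (der_le Q) ((commutator_mono hQ hQ).trans h.der)
  have c0 := isCyclic_of_le' (inf_le_right : Q ⊓ N ≤ N) h.cyc
  have cq := isCyclic_bar_mono nN n0.norm le_rfl (isCyclic_of_le' (bar_mono N hQ) h.quo)
  have hD := M2.cyc (isCyclic_of_le' dN c0) (isPGroup_of_le (der_le Q) h2) (le_normalizer_der hX) ho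
  have c2 : Q ≤ 𝐂(⁅Q, Q⁆) := by
    rw [le_cent_iff_commutator]
    conv_lhs => enter [1]; rw [← e]
    refine commutator_commutator_eq_bot_of_rotate (by rw [le_cent_iff_commutator.1 hD]; simp) ?_
    exact le_bot_iff.1 ((commutator_mono (commutator_le_left' (der_nrm Q).norm) le_rfl).trans
      (le_cent_iff_commutator'.1 hD).le)
  have cm : ∀ x ∈ Q, ∀ y ∈ Q, ∀ z ∈ Q, Commute x ⁅y, z⁆ := fun x hx y hy z hz =>
    (mem_cent_iff.1 (c2 hx) _ (commutator_mem_commutator hy hz)).symm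
  obtain ⟨g, hg⟩ := (Subgroup.isCyclic_iff_exists_zpowers_eq_top _).1 c0
  have gQ : g ∈ Q ⊓ N := hg ▸ mem_zpowers g
  suffices ∀ y ∈ Q, Commute g y from comm_of_bar_cyclic (hg ▸ zpowers_le.2 (mem_cent_iff.2
    fun y hy => (this y hy).symm)) cq
  obtain ⟨b, hb, eb⟩ := exists_gen n0.norm cq
  rw [← hg] at dN
  obtain ⟨r, hr⟩ : ∃ r, ♯⁅Q, Q⁆ * 2 ^ r = orderOf g := by
    obtain ⟨k, hk⟩ := card_dvd_of_le' dN
    obtain ⟨m, hm⟩ := isPGroup_iff_mem.1 h2 g gQ.1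
    rw [Nat.card_zpowers] at hk
    obtain ⟨r, -, rfl⟩ := (Nat.dvd_prime_pow Nat.prime_two).1
      ((Dvd.intro_left _ hk.symm).trans (orderOf_dvd_of_pow_eq_one hm))
    exact ⟨r, hk.symm⟩
  have eD := H2.eq_zpowers_pow_of_le_zpowers dN hr
  have gD : g ^ 2 ^ r ∈ ⁅Q, Q⁆ := eD ▸ mem_zpowers _
  have mp := fun y hy z hz => H2.mul_pow_of_commute_commutator (cm y hy z hz y hy)
    (cm z hz z hz y hy) (2 ^ r)
  have k1 := powK (n := 2 ^ r) h2 hX ho e (le_normalizer_der hX) (fun y hy z hz a b => by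
    rw [mp y hy z hz]; exact mul_mem (mul_mem a b) (pow_mem (commutator_mem_commutator hz hy) _))
    (fun d hd => pow_mem hd _) hb fun y hy => by
      obtain ⟨n, hn, k, rfl⟩ := elim (n0.norm hb) (eb hy)
      obtain ⟨i, rfl⟩ := hg.ge hn
      exact ⟨-k, by simpa [← zpow_natCast, ← zpow_mul, mul_comm i] using zpow_mem gD i⟩
  rcases r with _ | _ | r
  · exact fun y hy => mem_cent_iff.1 (c2 hy) g (by simpa using gD)
  · refine fun y hy => h.cent (hQ hy) (h.der (commutator_mono hQ hQ (k1 y hy))) gQ.2 ?_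
    let K : Subgroup G := om 2 ⁅Q, Q⁆
    have cD := comm_of_isCyclic (isCyclic_of_le' dN inferInstance)
    have : ⁅Q, Q⁆ ≤ om 2 ⁅Q, Q⁆ := commutator_le.2 fun y hy z hz =>
      mem_om (commutator_mem_commutator hy hz) (by
        rw [← H2.commutator_pow_left_of_commute (cm y hy y hy z hz),
          commutatorElement_eq_one_iff_mul_comm]
        exact mem_cent_iff.1 (c2 hz) _ (k1 y hy))
    simpa [← pow_mul] using ((mem_om_of_comm cD).1 (this gD)).2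
  have sq : ∀ d ∈ ⁅Q, Q⁆, ∀ m, d ^ (2 * m) ∈ phi ⁅Q, Q⁆ := fun d hd m => by
    rw [pow_mul]; exact pow_mem (pow_mem_phi (isPGroup_of_le (der_le Q) h2) hd) _
  have k2 := powK (n := 2 ^ (r + 2)) h2 hX ho e (le_normalizer_phi (le_normalizer_der hX))
    (fun y hy z hz a b => by
      rw [mp y hy z hz, Nat.choose_two_right, show 2 ^ (r + 1 + 1) * (2 ^ (r + 1 + 1) - 1) / 2 =
        2 * (2 ^ r * (2 ^ (r + 1 + 1) - 1)) from Nat.div_eq_of_eq_mul_right two_pos (by ring)]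
      exact mul_mem (mul_mem a b) (sq _ (commutator_mem_commutator hz hy) _))
    (fun d hd => by rw [pow_succ']; exact sq d hd _) gQ.1 (fun y hy => by
      obtain ⟨i, hi⟩ := eD.le (k1 y hy)
      refine ⟨-i, ?_⟩
      rw [mp y hy _ (Q.zpow_mem gQ.1 _), ← hi, ← zpow_natCast (g ^ (-i)), ← zpow_mul, mul_comm (-i),
        zpow_mul, zpow_natCast, zpow_neg, mul_inv_cancel, one_mul, Nat.choose_two_right,
        show 2 ^ (r + 1 + 1) * (2 ^ (r + 1 + 1) - 1) / 2 =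
          2 * (2 ^ r * (2 ^ (r + 1 + 1) - 1)) from Nat.div_eq_of_eq_mul_right two_pos (by ring)]
      exact sq _ (commutator_mem_commutator (Q.zpow_mem gQ.1 _) hy) _) g gQ.1
  have : ⁅Q, Q⁆ = ⊥ := by_contra fun h0 => (phi_lt h0).not_ge (eD.le.trans (zpowers_le.2 k2))
  exact fun y hy => mem_cent_iff.1 (comm_iff_le_cent.1 (comm_iff_der.2 this) hy) g gQ.1

theorem comm_eq (h2 : IsPGroup 2 Q) (h4 : (phi Q).relIndex Q ≤ 4) (hX : X ≤ 𝐍(Q))
    (ho : PiG {2}ᶜ X) (h : ¬ X ≤ 𝐂(Q)) : bar (phi Q) Q ⊓ 𝐂(bar (phi Q) X) = ⊥ ∧ ⁅Q, X⁆ = Q := by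
  have n := (phi_nrm Q).norm
  have nX := le_normalizer_phi hX
  have a := abelem_bar_phi h2
  have h1 : bar (phi Q) Q ⊓ 𝐂(bar (phi Q) X) = ⊥ := by_contra fun h1 => h (cent_symm
    (le_cent_of_commutator_le_phi hX (coprime_of_isPGroup h2 ho).symm (by
      rw [commutator_comm, ← bar_le_cent_iff nX n]
      exact four a.1 a.isPGroup (by rwa [card_bar n]) (bar_le_normalizer _ hX) (ho.bar _) h1)))
  refine ⟨h1, eq_of_sup_phi (commutator_le_left' hX) ?_⟩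
  rw [← bar_le_bar_iff n ((commutator_le_left' hX).trans n), bar_commutator n nX,
    commutator_eq_of_cent_eq_bot (bar_le_normalizer _ hX)
      (coprime_of_isPGroup a.isPGroup (ho.bar _)).symm (.inr (isSolvable_of_comm' a.1)) h1]

theorem MC.eq_of_cr (h : MC S N) (hQ : H1.IsCR 2 S ⊤ Q) (h4 : (phi Q).relIndex Q ≤ 4)
    (hX : X ≤ 𝐍(Q)) (ho : PiG {2}ᶜ X) (hc : ¬ X ≤ 𝐂(Q)) : IsMulCommutative S := by
  have h2 := isPGroup_of_le hQ.le h.two
  have e := (comm_eq h2 h4 hX ho hc).2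
  have cQ := h.comm_of_odd hQ.le hX ho e
  rcases hQ.le.eq_or_lt with e1 | e1
  · exact e1 ▸ cQ
  have n := (phi_nrm Q).norm
  obtain ⟨t₀, ht₀, ht₁⟩ := SetLike.exists_of_lt (lt_inf_normalizer h.two.isNilpotent e1)
  obtain ⟨k, hk⟩ := isPGroup_iff_mem.1 h.two t₀ ht₀.1
  obtain ⟨j, htQ, ht2⟩ := H2.exists_pow_not_mem_pow_mem ht₁ (k := k) (hk ▸ one_mem Q)
  have ht := pow_mem ht₀ (2 ^ j)
  generalize t₀ ^ 2 ^ j = t at htQ ht2 ht
  have cq : ∀ {a b}, a ∈ Q → b ∈ Q → Commute a b := fun ha hb =>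
    mem_cent_iff.1 (comm_iff_le_cent.1 cQ hb) _ ha
  obtain ⟨q, hq, hx⟩ : ∃ q ∈ Q, ⁅t, q⁆ ∉ phi Q := by
    by_contra! hn
    refine htQ (hQ.radical (𝐍(Q) ⊓ qcent (phi Q) Q) (le_inf le_top inf_le_left)
      (inf_le_right.trans (le_normalizer_inf le_normalizer (le_normalizer_qcent
        (le_normalizer_phi le_rfl) le_rfl))) (H1.pResidualOf_le_iff.2 fun g hg ho => ?_)
      ⟨ht.1, ht.2, (mem_qcent_iff (le_normalizer_phi le_rfl ht.2) n).2 hn⟩)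
    refine zpowers_le.1 (cent_symm (le_cent_of_commutator_le_phi (zpowers_le.2 hg.1)
      (coprime_of_isPGroup h2 (piG_compl_iff_coprime.2 (by rwa [Nat.card_zpowers]))).symm ?_))
    rw [commutator_comm, ← le_qcent_iff (le_normalizer_phi (zpowers_le.2 hg.1)) n]
    exact zpowers_le.2 hg.2
  have xQ : ⁅t, q⁆ ∈ Q := commutator_le_right' (zpowers_le.2 ht.2)
    (commutator_mem_commutator (mem_zpowers t) hq)
  have xN : ⁅t, q⁆ ∈ N := h.der (commutator_mem_commutator ht.1 (hQ.le hq))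
  by_cases x2 : ⁅t, q⁆ ^ 2 = 1
  · have hK : Q ≤ om 2 Q ⊔ phi Q := by
      have nK : Q ≤ 𝐍(om 2 Q ⊔ phi Q) := le_normalizer_sup (om_nrm 2 Q).norm n
      have l : phi Q < om 2 Q ⊔ phi Q :=
        lt_of_le_not_ge le_sup_right fun h => hx (h (mem_sup_left (mem_om xQ x2)))
      have h5 := relIndex_mul_relIndex _ _ _ l.le (sup_le (om_le 2 Q) (phi_le Q))
      have h6 : (phi Q).relIndex (om 2 Q ⊔ phi Q) ≠ 1 := fun h => l.not_ge (relIndex_eq_one.1 h)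
      have := relIndex_pos (phi Q) (om 2 Q ⊔ phi Q)
      have := relIndex_pos (om 2 Q ⊔ phi Q) Q
      have h7 : 2 ≤ (phi Q).relIndex (om 2 Q ⊔ phi Q) := by omega
      rcases (by have : (om 2 Q ⊔ phi Q).relIndex Q * 2 ≤ 4 := by nlinarith
                 omega : (om 2 Q ⊔ phi Q).relIndex Q = 1 ∨ (om 2 Q ⊔ phi Q).relIndex Q = 2)
        with e2 | e2
      · exact relIndex_eq_one.1 e2
      obtain ⟨g, hg, e3⟩ := exists_gen nK (isCyclic_of_card_prime (by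
        rw [card_bar nK, e2]; exact Nat.prime_two))
      exact L1 h2 hX ho e nK (le_normalizer_sup (le_normalizer_om 2 hX) (le_normalizer_phi hX))
        e3 hg
    have el : ∀ y ∈ Q, y ^ 2 = 1 := fun y hy =>
      ((mem_om_of_comm cQ).1 ((eq_of_sup_phi (om_le 2 Q) hK).ge hy)).2
    have eN : ∀ y ∈ N, y ^ 2 = 1 := fun y hy => by
      by_contra h0
      obtain ⟨a, ha, a4, a2⟩ := ord4 h.two (h.nrm.le hy) h0
      have aN := zpowers_le.2 hy ha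
      exact a2 (el a (hQ.centralizer_le le_top ⟨h.nrm.le aN, mem_cent_iff.2 fun z hz =>
        (h.cent (hQ.le hz) (el z hz ▸ one_mem N) aN a4).symm⟩))
    have := card_le_of_abelem_of_isCyclic ⟨comm_of_isCyclic h.cyc, eN⟩ h.cyc
    have := one_lt_card.2 (ne_bot_of_mem xN fun e => hx (e ▸ one_mem _))
    exact comm_of_bar_cyclic (H2.le_centralizer_of_card_eq_prime h.two h.nrm.le h.nrm.norm
      (by omega)) h.quo
  obtain ⟨a, ha, a4, a2⟩ := ord4 h2 xQ x2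
  obtain ⟨i, hi⟩ := mem_zpowers_iff.1 ha
  have inv : t * ⁅t, q⁆ * t⁻¹ = ⁅t, q⁆⁻¹ := by
    have := (cq ht2 hq).eq
    calc _ = t ^ 2 * q * (t ^ 2)⁻¹ * (t * q⁻¹ * t⁻¹) := by rw [commutatorElement_def, pow_two]; group
      _ = _ := by rw [this, commutatorElement_def]; group
  have nc : ¬ Commute a t := fun c => a2 (by
    have : a = a⁻¹ := by
      conv_rhs => rw [← hi, ← inv_zpow, ← inv, conj_zpow, hi, ← c.eq, mul_inv_cancel_right]
    rw [pow_two]; nth_rw 1 [this]; rw [inv_mul_cancel])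
  have aN := zpowers_le.2 xN ha
  have aQ := zpowers_le.2 xQ ha
  obtain ⟨m, hm, l, rfl⟩ := elim (h.nrm.norm ht.1)
    ((h.gen_or ht.1).resolve_right (fun c => nc (c _ aN a4)) (hQ.le hq))
  rcases Int.even_or_odd' l with ⟨r, rfl | rfl⟩
  · have mQ : m ∈ Q := by
      rw [zpow_mul] at hq; exact (Q.mul_mem_cancel_right (Q.zpow_mem (by exact_mod_cast ht2) r)).1 hq
    obtain ⟨s, hs⟩ := mem_zpowers_iff.1 (conj_mem_of_mem_normalizer
      (normalizer_le_of_le_cyclic h.cyc (zpowers_le.2 hm) (h.nrm.norm ht.1)) (mem_zpowers m))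
    refine absurd ?_ hx
    have e4 : ⁅t, m * t ^ (2 * r)⁆ = m ^ (s - 1) := by
      rw [zpow_sub_one, hs, commutatorElement_def]; group
    have sq : ∀ u : ℤ, m ^ (2 * u) ∈ phi Q := fun u => by
      rw [zpow_mul]; exact zpow_mem (by exact_mod_cast pow_mem_phi h2 mQ) u
    rcases Int.even_or_odd' s with ⟨u, rfl | rfl⟩
    · have : m ∈ phi Q := by
        have := conj_mem_of_mem_normalizer' (le_normalizer_phi le_rfl ht.2) (hs ▸ sq u)
        simpa [mul_assoc] using this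
      rw [e4]; exact zpow_mem this _
    · rw [e4, add_sub_cancel_right]; exact sq u
  · refine absurd ?_ nc
    have h5 := (h.comm aN hm).inv_right.mul_right (cq aQ hq)
    rw [inv_mul_cancel_left, zpow_add_one, zpow_mul] at h5
    simpa using (cq aQ (Q.zpow_mem (by exact_mod_cast ht2 : t ^ (2 : ℤ) ∈ Q) r)).inv_right.mul_right h5

theorem der_ne_top (hS : Syl 2 S ⊤) (cS : IsMulCommutative S) (hr : prank 2 S ≤ 2)
    (h4 : ∃ y ∈ S, y ^ 2 ≠ 1) (hc : ¬ 𝐍(S) ≤ 𝐂(S)) : commutator G ≠ ⊤ ∧ S ≤ commutator G := by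
  classical
  have h2 := hS.isPGroup
  have sc := comm_iff_le_cent.1 cS
  have odd : ∀ {Y}, Y ≤ 𝐍(S) → (∀ X ≤ Y, PiG {2}ᶜ X → X ≤ 𝐂(S)) → Y ≤ 𝐂(S) := fun {Y} hY h =>
    le_of_forall_syl fun q _ _ => by
      obtain ⟨P, hP⟩ := exists_syl q Y
      refine ⟨P, hP, ?_⟩
      by_cases e : q = 2
      · subst e
        exact (Syl.le_of_nrm (hS.of_le le_normalizer le_top) le_rfl hP.isPGroup
          (hP.le.trans hY)).trans sc
      · exact h P hP.le (piG_compl_of_isPGroup_ne hP.isPGroup e)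
  have hO := pnElem_om_of_comm (p := 2) cS
  have fa : ∀ X ≤ 𝐍(S), PiG {2}ᶜ X → X ≤ 𝐂(om 2 S) → X ≤ 𝐂(S) := fun X hX ho h =>
    coprime_abelian_faithful_Ohm1 hX (coprime_of_isPGroup h2 ho).symm cS fun x hx hp =>
      cent_symm h (mem_om hx (by
        rw [← eq_of_isPGroup_of_dvd h2 hp (orderOf_dvd_card' hx), pow_orderOf_eq_one]))
  have fp : ∀ X ≤ 𝐍(S), PiG {2}ᶜ X → S ⊓ 𝐂(X) ≠ ⊥ → X ≤ 𝐂(S) := fun X hX ho h =>
    fa X hX ho (four hO.comm hO.isPGroup (hO.card ▸ Nat.pow_le_pow_right two_pos hr)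
      (le_normalizer_om 2 hX) ho (ne_bot_of_le (le_inf (om_mono inf_le_left)
        ((om_le _ _).trans inf_le_right)) (om_ne_bot_of_isPGroup (isPGroup_of_le inf_le_left h2) h)))
  have fx : ∀ g ∈ 𝐍(S), ∀ u ∈ S, u ≠ 1 → g ∈ 𝐂[u] → g ∈ 𝐂(S) := fun g hg u hu h1 h =>
    odd (Y := 𝐍(S) ⊓ 𝐂[u]) inf_le_left (fun X hX ho => fp X (hX.trans inf_le_left) ho
      (ne_bot_of_mem ⟨hu, le_cent1_iff.1 (hX.trans inf_le_right)⟩ h1)) ⟨hg, h⟩
  obtain ⟨X, hX, ho, hx⟩ : ∃ X ≤ 𝐍(S), PiG {2}ᶜ X ∧ ¬ X ≤ 𝐂(S) := by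
    by_contra! h; exact hc (odd le_rfl h)
  refine ⟨?_, (commutator_eq_of_cent_eq_bot hX (coprime_of_isPGroup h2 ho).symm
    (.inr (isSolvable_of_comm' cS)) (by_contra fun h => hx (fp X hX ho h))).ge.trans
      (commutator_mono le_top le_top)⟩
  have r2 : prank 2 S = 2 := le_antisymm hr (by_contra fun h => hx (cyc
    ((isCyclic_iff_rank_of_comm cS).2 (by rw [rank_eq_prank h2]; omega)) h2 hX ho))
  rw [r2] at hO
  obtain ⟨t, tO, t1⟩ := exists_ne_one_of_ne_bot (hO.ne_bot two_ne_zero)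
  have n := le_normalizer_centralizer (le_rfl : 𝐍(S) ≤ 𝐍(S))
  have c3 : ♯(bar 𝐂(S) 𝐍(S)) = 3 := by
    have h5 := relIndex_cent_dvd_of_abelem2 hO (le_normalizer_om 2 (le_rfl : 𝐍(S) ≤ 𝐍(S)))
    have h6 : 𝐂(om 2 S).relIndex 𝐍(S) = 𝐂(S).relIndex 𝐍(S) := by
      rw [← inf_relIndex_right, ← inf_relIndex_right 𝐂(S)]
      congr 1
      exact le_antisymm (fun g hg => ⟨fx g hg.2 t (om_le _ _ tO) t1 (cent_le_cent1 tO hg.1), hg.2⟩)
        (inf_le_inf_right _ (cent_anti (om_le 2 S)))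
    have h7 : ¬ 2 ∣ 𝐂(S).relIndex 𝐍(S) := fun h => (piNum_compl_singleton Nat.prime_two).1
      (Syl.hall (hS.of_le le_normalizer le_top)).idx (h.trans (relIndex_dvd_of_le_left _ sc))
    have h8 : 𝐂(S).relIndex 𝐍(S) ≠ 1 := fun h => hc (relIndex_eq_one.1 h)
    rw [card_bar n]
    rw [h6] at h5
    have := Nat.le_of_dvd (by norm_num) h5
    revert h5 h7 h8
    interval_cases 𝐂(S).relIndex 𝐍(S) <;> decide
  obtain ⟨x, xN, xC⟩ := SetLike.not_le_iff_exists.1 hc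
  have z := eq_zpowers_of_card_prime (c3 ▸ Nat.prime_three) (coset_mem_bar 𝐂(S) xN)
    (mt (coset_eq_one_iff (n xN)).1 xC)
  have x3 : x ^ 3 ∈ 𝐂(S) := (coset_eq_one_iff (n (pow_mem xN 3))).1 (by
    rw [coset_pow (n xN), ← c3]; exact pow_card_eq_one'' (coset_mem_bar _ xN))
  have cs : ∀ g ∈ 𝐍(S), ∃ i < 3, ∀ u ∈ S, g * u * g⁻¹ = x ^ i * u * (x ^ i)⁻¹ := fun g hg => by
    obtain ⟨i, hi, e⟩ := Finset.mem_image.1
      (mem_zpowers_iff_mem_range_orderOf.1 (z.ge (coset_mem_bar _ hg)))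
    rw [Finset.mem_range, ← Nat.card_zpowers, z, c3] at hi
    rw [← coset_pow (n xN), coset_eq_iff (n (pow_mem xN i)) (n hg), mem_cent_iff] at e
    exact ⟨i, hi, fun u hu => by
      calc _ = x ^ i * ((x ^ i)⁻¹ * g * u) * g⁻¹ := by group
        _ = _ := by rw [← e u hu]; group⟩
  have := Fintype.ofFinite G
  have := Fintype.ofFinite S
  let σ : Additive S ≃+ Additive S := MulEquiv.toAdditive (S.normalizerMonoidHom ⟨x, xN⟩)
  have hσ : ∀ a, ((σ a).toMul : G) = x * a.toMul * x⁻¹ := fun a => rfl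
  have ext : ∀ {a b : Additive S}, a = b ↔ (a.toMul : G) = b.toMul := by simp
  have h3 : ∀ a, σ (σ (σ a)) = a := fun a => ext.2 (by
    simp only [hσ]
    calc _ = x ^ 3 * a.toMul * (x ^ 3)⁻¹ := by simp [pow_succ, mul_assoc]
      _ = _ := by rw [← mem_cent_iff.1 x3 _ a.toMul.2]; group)
  have hf : ∀ a, σ a = a → a = 0 := fun a h => by_contra fun h0 => xC (fx x xN _ a.toMul.2
    (mt (ext (b := 0)).2 h0) (mem_cent1_iff.2 (mul_inv_eq_iff_eq_mul.1 (ext.1 h))))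
  obtain ⟨y, yS, y2⟩ := h4
  refine H1.B4.brauer (fun a : Additive S => (a.toMul : G)) (fun _ _ => rfl) σ h3 hf
    (fun a b => ⟨fun h => ?_, ?_⟩) (fun a => isPGroup_iff_mem.1 h2 _ a.toMul.2) (fun a ha => ?_) ?_
    ⟨.ofMul ⟨y, yS⟩, mt ext.1 (by simpa [pow_two] using y2)⟩
    ⟨.ofMul ⟨t, om_le _ _ tO⟩, mt ext.1 t1, ext.2 (by simpa [pow_two] using hO.abelem.2 t tO)⟩
  · obtain ⟨g, hg⟩ := isConj_iff.1 h
    obtain ⟨y, hy, e⟩ := hS.fusion_elt_of_comm cS _ a.toMul.2 g trivial (hg ▸ b.toMul.2)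
    obtain ⟨i, hi, e'⟩ := cs y hy.2
    simp only [ext, hσ, ← hg, ← e, e' _ a.toMul.2]
    interval_cases i
    exacts [.inl (by simp), .inr (.inl (by simp)), .inr (.inr (by simp [pow_two, mul_assoc]))]
  · rintro (rfl | rfl | rfl)
    exacts [IsConj.refl _, isConj_iff.2 ⟨x, rfl⟩, isConj_iff.2 ⟨x * x, by simp only [hσ]; group⟩]
  · have s := hS.of_le (sc.trans (cent_le_cent1 a.toMul.2)) le_top
    have b := Burnside_normal_complement s fun g hg => fx g hg.2 _ a.toMul.2 (mt (ext (b := 0)).2 ha) hg.1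
    exact ⟨_, Nat.not_even_iff_odd.1 fun h => piG_compl_singleton.1 (core_piG _ _) h.two_dvd,
      core_le _ _, fun c hc o => b.mem_of_nrm (core_nrm _ _).norm hc
        ((piNum_compl_singleton Nat.prime_two).2 o.not_two_dvd_nat), by
          rw [← (Syl.hall s).card_mul b, ← Nat.card_eq_fintype_card]; rfl⟩
  · have m3 := Equiv.Perm.card_fixedPoints_modEq (f := fun a => σ a) (p := 3)
      (n := 1) (funext h3)
    rw [(Fintype.card_eq_one_iff (α := Function.fixedPoints fun a => σ a)).2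
      ⟨⟨0, map_zero σ⟩, fun a => Subtype.ext (hf _ a.2)⟩] at m3
    obtain ⟨k, hk⟩ := IsPGroup.iff_card.1 h2
    have := card_lt_of_lt (lt_of_le_not_ge (om_le 2 S) fun h => y2 (hO.abelem.2 y (h yS)))
    rw [← Nat.card_eq_fintype_card, show Nat.card (Additive S) = 2 ^ k from hk] at m3 ⊢
    rw [hO.card, hk] at this
    have k3 : k ≠ 3 := by rintro rfl; revert m3; decide
    exact Nat.pow_dvd_pow 2 (by have := (Nat.pow_lt_pow_iff_right one_lt_two).1 this; omega : 4 ≤ k)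

end Cfsg.Agent.FT.M2
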