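import Cfsg.Agent.H3.BSChar

/-! Brauer's theorem on homocyclic Sylow 2-subgroups of rank two. -/

set_option autoImplicit false

namespace Cfsg.Agent.H1.B4

open Finset H3
open scoped MonoidAlgebra Classical

theorem comb {I X : Type*} [Fintype I] (a : I → ℤ) (b : X → I → ℤ) (J : Finset X)
    (o : X → X → Prop) [∀ μ, DecidablePred (o μ)] (i0 : I) (ha0 : a i0 = 1) (hb0 : ∀ μ ∈ J, b μ i0 = 0)
    (haa : ∑ i, a i ^ 2 = (4 : ℕ)) (hab : ∀ μ ∈ J, ∑ i, a i * b μ i = 1)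
    (hbb : ∀ μ ∈ J, ∑ i, b μ i * b μ i = 2) (h1 : ∀ μ ∈ J, ∀ ν ∈ J, 1 ≤ ∑ i, b μ i * b ν i)
    (h2 : ∀ μ ∈ J, ∀ ν ∈ J, ∑ i, b μ i * b ν i = 2 → o μ ν)
    (ho : ∀ μ, #{ν ∈ J | o μ ν} ≤ 3) (hJ : 10 ≤ #J) :
    ∃ j k l, a j ^ 2 = 1 ∧ a k ^ 2 = 1 ∧ a l ^ 2 = 1 ∧ k ≠ i0 ∧
      (∀ f : I → ℂ, ∑ i, a i * f i = f i0 + a j * f j + a k * f k + a l * f l) ∧
      ∀ μ ∈ J, b μ j = a j ∧ b μ k = 0 ∧ b μ l = 0 := by
  obtain ⟨T, hT0, hT, hs, hf⟩ := support_of_sum_sq a i0 (by rw [ha0]; rfl) le_rfl haa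
  have sq : ∀ i ∈ T, a i * a i = 1 := fun i hi => by rcases hs i hi with h | h <;> simp [h]
  have split : ∀ μ ν, ∑ i, b μ i * b ν i = ∑ i ∈ T, b μ i * b ν i + ∑ i ∈ Tᶜ, b μ i * b ν i :=
    fun μ ν => (sum_add_sum_compl T _).symm
  have hc : ∀ μ, ∃ j, μ ∈ J → j ∈ T ∧ ∀ k ∈ T, b μ k = if k = j then a k else 0 := fun μ => by
    by_cases hμ : μ ∈ J
    swap; · exact ⟨i0, fun h => absurd h hμ⟩
    have e1 := hf fun i => b μ i
    rw [hb0 μ hμ] at e1
    have e2 : ∑ i ∈ T, a i * b μ i = 1 := by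
      have := hab μ hμ
      exact_mod_cast (by rw [Int.cast_zero, mul_zero, zero_add] at e1; rw [← e1]; exact_mod_cast this :
        ∑ i ∈ T, (a i : ℂ) * b μ i = 1)
    have e3 : ∑ i ∈ T, b μ i * b μ i ≤ 2 := by
      rw [← hbb μ hμ, split]; exact le_add_of_nonneg_right (sum_nonneg fun _ _ => mul_self_nonneg _)
    obtain ⟨x, y, z, xy, xz, yz, rfl⟩ := card_eq_three.1 (by omega : #T = 3)
    rw [sum_insert (by simp [xy, xz]), sum_pair yz] at e2 e3
    have bd : ∀ t : ℤ, t * t ≤ 2 → t = -1 ∨ t = 0 ∨ t = 1 := fun t h => by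
      have : t ≤ 1 := by nlinarith
      have : -1 ≤ t := by nlinarith
      omega
    have := mul_self_nonneg (b μ x); have := mul_self_nonneg (b μ y); have := mul_self_nonneg (b μ z)
    have hx := hs x (by simp); have hy := hs y (by simp); have hz := hs z (by simp)
    have : (b μ x = a x ∧ b μ y = 0 ∧ b μ z = 0) ∨ (b μ x = 0 ∧ b μ y = a y ∧ b μ z = 0) ∨
        (b μ x = 0 ∧ b μ y = 0 ∧ b μ z = a z) := by
      rcases bd (b μ x) (by omega) with p | p | p <;> rcases bd (b μ y) (by omega) with q | q | q <;>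
        rcases bd (b μ z) (by omega) with r | r | r <;> rw [p, q, r] at e2 e3 ⊢ <;> omega
    rcases this with h | h | h
    exacts [⟨x, fun _ => by simp [h, xy.symm, xz.symm]⟩, ⟨y, fun _ => by simp [h, xy, yz.symm]⟩,
      ⟨z, fun _ => by simp [h, xz, yz]⟩]
  choose c hc using hc
  have hT' : ∀ μ ∈ J, ∀ ν ∈ J, ∑ i ∈ T, b μ i * b ν i = if c μ = c ν then 1 else 0 :=
    fun μ hμ ν hν => by
      rw [sum_eq_single_of_mem (c μ) (hc μ hμ).1 fun k hk h => by simp [(hc μ hμ).2 k hk, h],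
        (hc μ hμ).2 _ (hc μ hμ).1, (hc ν hν).2 _ (hc μ hμ).1, if_pos rfl]
      split_ifs <;> simp [sq _ (hc μ hμ).1]
  have r1 : ∀ μ ∈ J, ∑ i ∈ Tᶜ, b μ i * b μ i = 1 := fun μ hμ => by
    have := split μ μ; rw [hbb μ hμ, hT' μ hμ μ hμ, if_pos rfl] at this; omega
  have r2 : ∀ μ ∈ J, ∀ ν ∈ J, c μ ≠ c ν → ∀ i ∈ Tᶜ, b μ i = b ν i := fun μ hμ ν hν h => by
    have e := h1 μ hμ ν hν
    rw [split, hT' μ hμ ν hν, if_neg h] at e
    have : ∑ i ∈ Tᶜ, (b μ i - b ν i) ^ 2 = ∑ i ∈ Tᶜ, b μ i * b μ i + ∑ i ∈ Tᶜ, b ν i * b ν i -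
        2 * ∑ i ∈ Tᶜ, b μ i * b ν i := by
      rw [mul_sum, ← sum_add_distrib, ← sum_sub_distrib]; exact sum_congr rfl fun _ _ => by ring
    rw [r1 μ hμ, r1 ν hν] at this
    have e0 := (sum_eq_zero_iff_of_nonneg fun i _ => sq_nonneg (b μ i - b ν i)).1
      (le_antisymm (by omega) (sum_nonneg fun i (_ : i ∈ Tᶜ) => sq_nonneg (b μ i - b ν i)))
    exact fun i hi => sub_eq_zero.1 (pow_eq_zero_iff two_ne_zero |>.1 (e0 i hi))
  obtain ⟨μ₀, h₀⟩ := card_pos.1 (by omega : 0 < #J)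
  have all : ∀ μ ∈ J, c μ = c μ₀ := by
    by_contra! hn
    obtain ⟨μ₁, h₁, hne⟩ := hn
    have := card_le_mul_card_image_of_maps_to (f := c) (fun μ hμ => (hc μ hμ).1) 3 fun j _ => by
      rcases ({ν ∈ J | c ν = j} : Finset X).eq_empty_or_nonempty with e | ⟨μ, hμ⟩
      · simp [e]
      refine (card_le_card fun ν hν => ?_).trans (ho μ)
      rw [mem_filter] at hμ hν ⊢
      obtain ⟨κ, hκ, e⟩ : ∃ κ ∈ J, j ≠ c κ := by
        by_cases e : j = c μ₀
        exacts [⟨μ₁, h₁, e ▸ hne.symm⟩, ⟨μ₀, h₀, e⟩]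
      refine ⟨hν.1, h2 μ hμ.1 ν hν.1 ?_⟩
      rw [split, hT' μ hμ.1 ν hν.1, if_pos (hμ.2.trans hν.2.symm), sum_congr rfl fun i hi => by
        rw [r2 ν hν.1 κ hκ (hν.2 ▸ e) i hi, ← r2 μ hμ.1 κ hκ (hμ.2 ▸ e) i hi], r1 μ hμ.1]
      rfl
    omega
  have hj := (hc μ₀ h₀).1
  obtain ⟨k, l, kl, e⟩ := card_eq_two.1 (by rw [card_erase_of_mem hj]; omega : #(T.erase (c μ₀)) = 2)
  have hk : k ∈ T.erase (c μ₀) := by simp [e]
  have hl : l ∈ T.erase (c μ₀) := by simp [e]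
  rw [mem_erase] at hk hl
  refine ⟨c μ₀, k, l, by rw [pow_two, sq _ hj], by rw [pow_two, sq _ hk.2],
    by rw [pow_two, sq _ hl.2], fun h => hT0 (h ▸ hk.2), fun f => ?_, fun μ hμ => ?_⟩
  · rw [hf, ha0, ← add_sum_erase _ _ hj, e, sum_pair kl]; push_cast; ring
  · have := (hc μ hμ).2
    rw [all μ hμ] at this
    exact ⟨by rw [this _ hj, if_pos rfl], by rw [this _ hk.2, if_neg hk.1],
      by rw [this _ hl.2, if_neg hl.1]⟩

theorem numeric {x y u v : ℤ} (hx : x = 1 + 16 * u) (hy : y = 1 + 16 * v)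
    (h : (x * y + x + y) * (1 + x + y) = 9 * (x * y)) : x = 1 := by
  obtain ⟨w, hw⟩ : ∃ w, w = u + v := ⟨_, rfl⟩
  have hs : x + y = 2 + 16 * w := by omega
  have h1 : (6 - 16 * w) * (x * y - (6 - 16 * w) + 17) = 72 := by
    have : y = 2 + 16 * w - x := by omega
    subst this; linear_combination (-1 : ℤ) * h
  have h2 := Int.le_of_dvd (by norm_num) ((abs_dvd _ _).2 (Dvd.intro _ h1))
  have := abs_le.1 h2
  have h3 : w ≤ 4 := by omega
  have h4 : -4 ≤ w := by omega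
  have : w = 0 := by generalize x * y = p at h1; interval_cases w <;> omega
  subst this
  have : y = 2 - x := by omega
  subst this; nlinarith

variable {G : Type*} [Group G] [Fintype G]

theorem card_conj {g h : G} (e : IsConj g h) :
    #{x : G | x * g * x⁻¹ = h} = Nat.card (Subgroup.centralizer ({h} : Set G)) := by
  obtain ⟨c, rfl⟩ := isConj_iff.1 e
  rw [Nat.card_eq_fintype_card, Fintype.card_subtype]
  refine card_bij (fun x _ => x * c⁻¹) (fun x hx => ?_) (fun x _ y _ h => mul_right_cancel h)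
    fun y hy => ⟨y * c, ?_, by group⟩
  · rw [mem_filter_univ] at hx ⊢
    rw [Subgroup.mem_centralizer_singleton_iff]
    conv_rhs => rw [← hx]
    calc _ = x * g * x⁻¹ * (x * c⁻¹) := by group
      _ = _ := by rw [hx]
  · rw [mem_filter_univ] at hy ⊢
    rw [Subgroup.mem_centralizer_singleton_iff] at hy
    calc _ = y * (c * g * c⁻¹) * y⁻¹ := by group
      _ = _ := by rw [hy]; group

theorem col (W : Wedd G) {z : G} {n : ℕ} (hz : z ^ 2 ^ n = 1) {N : Subgroup G}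
    (hN : Odd (Nat.card N)) (hNC : N ≤ Subgroup.centralizer {z})
    (hall : ∀ c ∈ Subgroup.centralizer ({z} : Set G), Odd (orderOf c) → c ∈ N) (g : G) :
    ∑ i ∈ W.B0, W.χ i (gE z) * W.χ i (gE g) =
      (Nat.card N : ℂ)⁻¹ * #{x : G | z⁻¹ * (x * g⁻¹ * x⁻¹) ∈ N} := by
  have := W.column_gE (gE z * avg N) g
  simp only [W.χ_mul_avg _ hz hN hNC hall, ite_mul, zero_mul, coeff_gE_mul] at this
  rw [← sum_filter, filter_mem_eq_inter, univ_inter] at this
  rw [this, card_filter, Nat.cast_sum, mul_sum]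
  refine sum_congr rfl fun x _ => ?_
  split_ifs with h
  · rw [coeff_avg_of_mem h]; simp
  · rw [coeff_avg_of_notMem h]; simp

theorem mem_zpowers_mul {z y : G} {n : ℕ} (hz : z ^ 2 ^ n = 1) (hy : Odd (orderOf y))
    (h : Commute z y) : z ∈ Subgroup.zpowers (z * y) := by
  have c : (orderOf y).Coprime (orderOf z) :=
    (hy.coprime_two_right.pow_right n).coprime_dvd_right
      (orderOf_dvd_of_pow_eq_one hz)
  obtain ⟨m, hm⟩ := exists_pow_eq_self_of_coprime c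
  exact ⟨(orderOf y * m : ℕ), by
    simp only [zpow_natCast]; rw [pow_mul, h.mul_pow, pow_orderOf_eq_one, mul_one, hm]⟩

theorem commutator_le_ker (W : Wedd G) {i : Fin W.n} (h : W.d i = 1) : commutator G ≤ W.ker i :=
  Subgroup.commutator_le.2 fun x _ y _ => by
    have : Subsingleton (Fin (W.d i)) := by rw [h]; infer_instance
    have c : ∀ M N : Matrix (Fin (W.d i)) (Fin (W.d i)) ℂ, M * N = N * M := fun M N => by
      ext a b
      rw [Subsingleton.elim b a, Matrix.mul_apply, Matrix.mul_apply, Fintype.sum_subsingleton _ a,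
        Fintype.sum_subsingleton _ a, mul_comm]
    rw [W.mem_ker, commutatorElement_def]
    simp only [gE_mul, map_mul, Pi.mul_apply]
    rw [c (W.φ (gE x) i), mul_assoc, mul_assoc, ← mul_assoc (W.φ (gE x) i)]
    simp only [← Pi.mul_apply, ← map_mul, ← gE_mul]
    simp

theorem brauer {A : Type*} [AddCommGroup A] [Fintype A] (ι : A → G)
    (hι : ∀ a b, ι (a + b) = ι a * ι b) (σ : A ≃+ A) (h3 : ∀ a, σ (σ (σ a)) = a)
    (hf : ∀ a, σ a = a → a = 0) (hc : ∀ a b, IsConj (ι a) (ι b) ↔ b = a ∨ b = σ a ∨ b = σ (σ a))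
    (h2 : ∀ a, ∃ n, ι a ^ 2 ^ n = 1)
    (hN : ∀ a ≠ 0, ∃ N : Subgroup G, Odd (Nat.card N) ∧ N ≤ Subgroup.centralizer {ι a} ∧
      (∀ c ∈ Subgroup.centralizer {ι a}, Odd (orderOf c) → c ∈ N) ∧
      Nat.card (Subgroup.centralizer {ι a}) = Fintype.card A * Nat.card N)
    (h16 : 16 ∣ Fintype.card A) (h4 : ∃ a : A, a + a ≠ 0) (ht : ∃ a : A, a ≠ 0 ∧ a + a = 0) :
    commutator G ≠ ⊤ := by
  obtain ⟨W⟩ := nonempty_wedd G
  have ι0 : ι 0 = 1 := by simpa using (hι 0 0).symm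
  have ιn : ∀ a, ι (-a) = (ι a)⁻¹ := fun a => eq_inv_of_mul_eq_one_left (by rw [← hι]; simp [ι0])
  have hA : (Fintype.card A : ℂ) ≠ 0 := by exact_mod_cast Fintype.card_ne_zero
  have hf2 : ∀ a, σ (σ a) = a → a = 0 := fun a h => hf a (by conv_rhs => rw [← h3 a, h])
  let c : Fin W.n → A → ℂ := fun i a => W.χ i (gE (ι a))
  have col1 : ∀ a ≠ 0, ∀ b, ∑ i ∈ W.B0, c i a * c i b =
      if IsConj (ι (-b)) (ι a) then (Fintype.card A : ℂ) else 0 := fun a ha b => by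
    obtain ⟨N, n1, n2, n3, n4⟩ := hN a ha
    obtain ⟨n, hn⟩ := h2 a
    obtain ⟨m, hm⟩ := h2 (-b)
    rw [col W hn n1 n2 n3, ← ιn b, filter_congr (q := fun x => x * ι (-b) * x⁻¹ = ι a) fun x _ =>
      ⟨fun h => ?_, fun h => by rw [h, inv_mul_cancel]; exact one_mem _⟩]
    · split_ifs with e
      · rw [card_conj e, n4]; push_cast; field_simp [card_cast_ne_zero N]
      · rw [filter_eq_empty_iff.2 fun x _ h => e (isConj_iff.2 ⟨x, h⟩)]; simp
    · set y := (ι a)⁻¹ * (x * ι (-b) * x⁻¹)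
      have e : x * ι (-b) * x⁻¹ = ι a * y := by simp [y]
      have cm : Commute (ι a) y := (Subgroup.mem_centralizer_singleton_iff.1 (n2 h)).symm
      have : y ^ 2 ^ (n + m) = 1 := by
        have := congrArg (· ^ 2 ^ (n + m)) e
        simp only [cm.mul_pow, conj_pow, pow_add] at this
        rwa [pow_mul (ι a), hn, one_pow, one_mul, mul_comm (2 ^ n), pow_mul (ι (-b)), hm, one_pow,
          mul_one, mul_inv_cancel, eq_comm, mul_comm, ← pow_add] at this
      rw [e, (pow_eq_one_iff_of_coprime (n1.coprime_two_left.pow_left _)).1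
        ⟨this, orderOf_dvd_iff_pow_eq_one.1 (N.orderOf_dvd_natCard h)⟩, mul_one]
  let E : AddChar A ℂ → ℂ[G] := fun ψ => ∑ a, ((Fintype.card A : ℂ)⁻¹ * ψ a) • gE (ι a)
  have hE : ∀ ψ, E ψ * E ψ = E ψ := fun ψ => by
    have : ∀ a, (((Fintype.card A : ℂ)⁻¹ * ψ a) • gE (ι a)) * E ψ = (Fintype.card A : ℂ)⁻¹ • E ψ :=
      fun a => by
        simp only [E, mul_sum, smul_sum]
        refine Fintype.sum_equiv (Equiv.addLeft a) _ _ fun b => ?_
        rw [smul_mul_smul_comm, ← gE_mul, ← hι, smul_smul, Equiv.coe_addLeft, ψ.map_add_eq_mul]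
        congr 1; ring
    conv_lhs => enter [1]; simp only [E]
    rw [sum_mul, sum_congr rfl fun a _ => this a, sum_const, card_univ, ← Nat.cast_smul_eq_nsmul ℂ,
      smul_smul, mul_inv_cancel₀ hA, one_smul]
  choose n hn using fun i ψ => (W.χ_idem i (hE ψ)).imp fun _ h => h.1
  replace hn : ∀ i ψ, (n i ψ : ℂ) = (Fintype.card A : ℂ)⁻¹ * ∑ a, ψ a * c i a := fun i ψ => by
    simp [← hn, E, c, mul_sum, mul_assoc]
  have inv : ∀ i b, c i b = ∑ ψ, n i ψ * ψ (-b) := fun i b => by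
    simp only [hn, mul_sum, sum_mul]
    rw [sum_comm, sum_congr rfl fun a _ => (by
      rw [← AddChar.sum_apply_eq_ite, mul_sum]
      exact sum_congr rfl fun ψ _ => by rw [sub_eq_add_neg, ψ.map_add_eq_mul]; ring :
      _ = (Fintype.card A : ℂ)⁻¹ * c i a * if a - b = 0 then (Fintype.card A : ℂ) else 0)]
    simp only [sub_eq_zero, mul_ite, mul_zero, sum_ite_eq', mem_univ, if_true]
    field_simp
  have R0 : ∀ ψ φ g, ∑ i ∈ W.B0, ((n i ψ : ℂ) - n i φ) * W.χ i (gE g) = (Fintype.card A : ℂ)⁻¹ *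
      ∑ a, (ψ a - φ a) * ∑ i ∈ W.B0, c i a * W.χ i (gE g) := fun ψ φ g => by
    simp only [hn, mul_sum, ← sum_sub_distrib, sum_mul]
    rw [sum_comm]; exact sum_congr rfl fun _ _ => sum_congr rfl fun _ _ => by ring
  let s : AddChar A ℂ → AddChar A ℂ := fun ψ => ψ.compAddMonoidHom σ
  have R1 : ∀ ψ φ b, ∑ i ∈ W.B0, ((n i ψ : ℂ) - n i φ) * c i b =
      (ψ (-b) + s ψ (-b) + s (s ψ) (-b)) - (φ (-b) + s φ (-b) + s (s φ) (-b)) := fun ψ φ b => by
    rw [R0, sum_congr rfl fun a _ => (by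
      by_cases ha : a = 0
      · simp [ha]
      · rw [col1 a ha]; simp [mul_comm] :
      _ = if IsConj (ι (-b)) (ι a) then Fintype.card A * (ψ a - φ a) else 0), ← sum_filter,
      ← mul_sum, ← mul_assoc, inv_mul_cancel₀ hA, one_mul]
    generalize -b = b
    by_cases hb : b = 0
    · rw [sum_eq_zero fun a ha => by
        rw [mem_filter_univ, hc, hb] at ha; simp only [map_zero, or_self] at ha; simp [ha]]
      simp [hb]
    have h1 : b ≠ σ b := fun h => hb (hf b h.symm)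
    have h2 : b ≠ σ (σ b) := fun h => hb (hf2 b h.symm)
    rw [show ({a | IsConj (ι b) (ι a)} : Finset A) = {b, σ b, σ (σ b)} by ext; simp [hc, -isConj_iff],
      sum_insert (by simp [h1, h2]), sum_pair (σ.injective.ne h1)]
    simp only [s, AddChar.compAddMonoidHom_apply, AddMonoidHom.coe_coe]; ring
  let O : AddChar A ℂ → AddChar A ℂ → ℤ := fun ψ θ =>
    (if θ = ψ then 1 else 0) + (if θ = s ψ then 1 else 0) + if θ = s (s ψ) then 1 else 0
  have orth : ∀ θ ψ : AddChar A ℂ, (Fintype.card A : ℂ)⁻¹ * ∑ b, θ b * ψ (-b) =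
      if θ = ψ then 1 else 0 := fun θ ψ => by
    simp only [← AddChar.sub_apply, AddChar.sum_eq_ite, sub_eq_zero]
    split_ifs <;> simp [hA]
  let v : AddChar A ℂ → Fin W.n → ℤ := fun ψ i => if i ∈ W.B0 then n i ψ else 0
  have hv : ∀ ψ φ (f : Fin W.n → ℂ), ∑ i, ((v ψ i - v φ i : ℤ) : ℂ) * f i =
      ∑ i ∈ W.B0, ((n i ψ : ℂ) - n i φ) * f i := fun ψ φ f => by
    rw [← sum_filter_add_sum_filter_not univ (· ∈ W.B0), filter_mem_eq_inter, univ_inter,
      sum_eq_zero (s := filter _ _) fun i hi => by simp [v, (mem_filter.1 hi).2], add_zero]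
    exact sum_congr rfl fun i hi => by simp [v, hi]
  have R2 : ∀ ψ φ θ, ∑ i, (v ψ i - v φ i) * v θ i = O ψ θ - O φ θ := fun ψ φ θ => by
    have : ∑ i ∈ W.B0, ((n i ψ : ℂ) - n i φ) * n i θ = O ψ θ - O φ θ := by
      simp only [hn _ θ, O]
      push_cast
      simp only [← orth, ← mul_add, ← mul_sub, ← sum_add_distrib, ← sum_sub_distrib, ← R1, mul_sum]
      rw [sum_comm]; exact sum_congr rfl fun _ _ => sum_congr rfl fun _ _ => by ring
    rw [← sum_congr rfl fun i hi => (by simp [v, hi] :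
      ((n i ψ : ℂ) - n i φ) * (v θ i : ℂ) = ((n i ψ : ℂ) - n i φ) * n i θ), ← hv] at this
    exact_mod_cast this
  have Q : ∀ ψ φ θ η, ∑ i, (v ψ i - v φ i) * (v θ i - v η i) = O ψ θ - O φ θ - (O ψ η - O φ η) :=
    fun ψ φ θ η => by simp only [mul_sub, sum_sub_distrib, R2]
  have s3 : ∀ ψ, s (s (s ψ)) = ψ := fun ψ => by ext a; simp [s, h3]
  have s0 : s 0 = 0 := rfl
  have sf : ∀ ψ ≠ 0, ψ ≠ s ψ := fun ψ hψ h => hψ (by
    ext a
    obtain ⟨b, rfl⟩ := Finite.surjective_of_injective (f := (σ : A →+ A) - AddMonoidHom.id A)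
      ((injective_iff_map_eq_zero _).2 fun a h => hf a (sub_eq_zero.1 h)) a
    have : ψ (σ b) = ψ b := (DFunLike.congr_fun h b).symm
    simp [AddChar.map_sub_eq_div, this, (ψ.val_isUnit b).ne_zero])
  have si : Function.Injective s := AddChar.compAddMonoidHom_injective_left _ σ.surjective
  have sne : ∀ ψ ≠ 0, 0 ≠ s ψ := fun ψ hψ h => hψ (si (h.symm.trans s0.symm))
  have sf2 : ∀ ψ ≠ 0, ψ ≠ s (s ψ) := fun ψ hψ h => sf ψ hψ (by conv_lhs => rw [← s3 ψ, ← h])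
  have ns : ∀ i ψ, n i (s ψ) = n i ψ := fun i ψ => by
    have : (n i (s ψ) : ℂ) = n i ψ := by
      rw [hn, hn]; congr 1
      exact Fintype.sum_equiv σ.toEquiv _ _ fun a => by
        rw [show c i a = c i (σ a) from W.χ_gE_isConj i ((hc _ _).2 (.inr (.inl rfl)))]; rfl
    exact_mod_cast this
  obtain ⟨a₄, h4⟩ := h4
  obtain ⟨ψ₀, hψ₀⟩ := AddChar.exists_apply_ne_zero.2 h4
  obtain ⟨L, hL, hL2⟩ : ∃ L : AddChar A ℂ, L ≠ 0 ∧ ∀ a, a + a = 0 → L a = 1 :=
    ⟨ψ₀ + ψ₀, fun h => hψ₀ (by rw [ψ₀.map_add_eq_mul]; exact DFunLike.congr_fun h a₄),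
      fun a h => by rw [AddChar.add_apply, ← ψ₀.map_add_eq_mul, h, ψ₀.map_zero_eq_one]⟩
  let J : Finset (AddChar A ℂ) := univ \ {0, L, s L, s (s L)}
  have hJ : ∀ μ, μ ∈ J ↔ μ ≠ 0 ∧ μ ≠ L ∧ μ ≠ s L ∧ μ ≠ s (s L) := by simp [J]
  have O1 : ∀ ψ ≠ 0, O ψ ψ = 1 := fun ψ h => by simp [O, sf ψ h, sf2 ψ h]
  have O2 : ∀ ψ ≠ 0, O ψ 0 = 0 := fun ψ h => by
    simp [O, h.symm, sne ψ h, sne _ (sne ψ h).symm]
  have O3 : ∀ ψ ≠ 0, O 0 ψ = 0 := fun ψ h => by simp [O, h, s0]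
  have O4 : ∀ μ ∈ J, O L μ = 0 := fun μ h => by simp [O, (hJ μ).1 h]
  have O5 : ∀ μ ∈ J, O μ L = 0 := fun μ h => by
    obtain ⟨-, h1, h2, h3⟩ := (hJ μ).1 h
    simp only [O]
    rw [if_neg h1.symm, if_neg fun e => h3 (by rw [e, s3]), if_neg fun e => h2 (by rw [e, s3])]; rfl
  obtain ⟨i0, hi0⟩ := W.exists_ker_eq_top
  have v0 : ∀ ψ, v ψ i0 = if ψ = 0 then 1 else 0 := fun ψ => by
    have := orth ψ 0
    simp only [AddChar.zero_apply] at this
    have e : (n i0 ψ : ℂ) = if ψ = 0 then 1 else 0 := by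
      rw [hn, ← this]; simp only [c, W.χ_gE_of_ker_eq_top hi0]
    simp only [v, W.mem_B0_of_ker_eq_top hi0, if_true]
    split_ifs at e ⊢ <;> exact_mod_cast e
  obtain ⟨j, k, l, hj, hk, hl, k0, hsum, hb⟩ := comb (fun i => v 0 i - v L i)
    (fun μ i => v μ i - v L i) J (fun μ ν => ν = μ ∨ ν = s μ ∨ ν = s (s μ)) i0
    (by simp [v0, hL]) (fun μ h => by simp [v0, hL, ((hJ μ).1 h).1])
    (by simp only [pow_two, Q, O1 L hL, O2 L hL, O3 L hL]; simp [O, s0])
    (fun μ h => by simp [Q, O1 L hL, O3 L hL, O3 μ ((hJ μ).1 h).1, O4 μ h])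
    (fun μ h => by simp [Q, O1 L hL, O1 μ ((hJ μ).1 h).1, O4 μ h, O5 μ h])
    (fun μ h ν h' => by simp only [Q, O1 L hL, O4 ν h', O5 μ h]; simp only [O]; split_ifs <;> simp)
    (fun μ h ν h' => by
      simp only [Q, O1 L hL, O4 ν h', O5 μ h]; simp only [O]
      exact fun e => by_contra fun e' => by simp [not_or.1 e', not_or.1 (not_or.1 e').2] at e)
    (fun μ => (card_le_card fun ν hν => by simpa using (mem_filter.1 hν).2).trans
      (card_le_three (a := μ) (b := s μ) (c := s (s μ))))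
    (by
      have := le_card_sdiff ({0, L, s L, s (s L)} : Finset _) univ
      have := card_le_four (a := 0) (b := L) (c := s L) (d := s (s L))
      have := Nat.le_of_dvd Fintype.card_pos h16
      simp only [J, card_univ, AddChar.card_eq] at *; omega)
  obtain ⟨a, ha⟩ : ∃ a : Fin W.n → ℤ, ∀ i, v 0 i - v L i = a i := ⟨_, fun _ => rfl⟩
  simp only [ha] at hj hk hl hb hsum
  have mB : ∀ i, a i ^ 2 = 1 → ∀ ψ, v ψ i = n i ψ := fun i h ψ => if_pos (by
    by_contra e; rw [← ha] at h; simp [v, e] at h)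
  have ck : ∀ i, a i ^ 2 = 1 → (∀ μ ∈ J, v μ i - v L i = 0) → ∀ b,
      c i b = n i L * (if -b = 0 then (Fintype.card A : ℂ) else 0) + a i := fun i h h' b => by
    have : ∀ ψ, (n i ψ : ℂ) = n i L + if ψ = 0 then (a i : ℂ) else 0 := fun ψ => by
      have e1 := ha i; have e2 := h' ψ
      simp only [mB i h, hJ] at e1 e2
      split_ifs with e
      · rw [e, ← e1]; simp
      · by_cases e' : ψ = L ∨ ψ = s L ∨ ψ = s (s L)
        · rcases e' with e' | e' | e' <;> simp [e', ns]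
        · push Not at e'; simpa [sub_eq_zero] using e2 ⟨e, e'⟩
    rw [inv, sum_congr rfl fun ψ _ => by rw [this ψ, add_mul], sum_add_distrib, ← mul_sum,
      AddChar.sum_apply_eq_ite]
    simp
  have cj : ∀ b, c j b = (n j L + a j) * (if -b = 0 then (Fintype.card A : ℂ) else 0) -
      a j * (L (-b) + s L (-b) + s (s L) (-b)) := fun b => by
    have : ∀ ψ, (n j ψ : ℂ) = n j L + a j - a j * O L ψ := fun ψ => by
      have e1 := ha j; have e2 := fun h => (hb ψ h).1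
      simp only [mB j hj, hJ] at e1 e2
      by_cases e' : ψ = L ∨ ψ = s L ∨ ψ = s (s L)
      · have a1 := sf L hL; have a2 := sf2 L hL; have a3 := si.ne (sf L hL)
        rcases e' with e' | e' | e' <;>
          simp [e', ns, O, a1, a2, a3, a1.symm, a2.symm, a3.symm]
      · push Not at e'
        by_cases e : ψ = 0
        · rw [e, O2 L hL, ← e1]; simp
        · rw [O4 ψ ((hJ ψ).2 ⟨e, e'⟩), ← e2 ⟨e, e'⟩]; simp
    rw [inv, sum_congr rfl fun ψ _ => by rw [this ψ, sub_mul, mul_assoc], sum_sub_distrib,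
      ← mul_sum, ← mul_sum, AddChar.sum_apply_eq_ite]
    simp [O, add_mul, sum_add_distrib]
  obtain ⟨t, ht0, ht⟩ := ht
  have c0 : ∀ i, c i 0 = W.d i := fun i => by simp only [c, ι0, gE_one, W.χ_one]
  have r1 : ∑ i, a i * (W.d i : ℂ) = 0 := by
    simpa [← ha, ← hv, c0] using R1 0 L 0
  have tt : ι t * ι t = 1 := by rw [← hι, ht, ι0]
  have r3 : ∑ i, a i * (c i t ^ 2 / W.d i) = 0 := by
    have hG : (Fintype.card G : ℂ) ≠ 0 := by exact_mod_cast Fintype.card_ne_zero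
    apply mul_left_cancel₀ hG
    have h1 : ∑ i, a i * W.χ i (gE (ι t) * conjSum (gE (ι t))) = 0 := by
      simp only [conjSum, mul_sum, map_sum]
      rw [sum_comm]
      refine sum_eq_zero fun x _ => ?_
      simp only [← gE_mul, ← ha, hv, R0]
      refine mul_eq_zero_of_right _ (sum_eq_zero fun u _ => ?_)
      by_cases hu : u + u = 0
      · simp [hL2 u hu]
      obtain ⟨N, n1, n2, n3, -⟩ := hN u (by rintro rfl; simp at hu)
      obtain ⟨m, hm⟩ := h2 u
      rw [col W hm n1 n2 n3, filter_eq_empty_iff.2 fun y _ h => ?_]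
      · simp
      obtain ⟨r, hr⟩ := mem_zpowers_mul hm (n1.of_dvd_nat (N.orderOf_dvd_natCard h))
        (Subgroup.mem_centralizer_singleton_iff.1 (n2 h)).symm
      have ti : (ι t)⁻¹ = ι t := inv_eq_of_mul_eq_one_left tt
      have : IsConj (ι u) (ι (-u)) := isConj_iff.2 ⟨y * ι t * y⁻¹, by
        rw [ιn, ← hr, ← conj_zpow, ← inv_zpow]; congr 1
        simp only [mul_inv_rev, inv_inv, ti, mul_inv_cancel_left]
        calc _ = y * ι t * x * ι t * x⁻¹ * (ι t * ι t) * y⁻¹ := by group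
          _ = _ := by rw [tt]; group⟩
      rcases (hc _ _).1 this with e | e | e
      · exact hu (by nth_rw 1 [← e]; simp)
      · exact hu (by rw [hf2 u (by rw [← e, map_neg, ← e, neg_neg])]; simp)
      · exact hu (by rw [hf u (by
          have := congrArg σ e
          rw [h3, map_neg, neg_eq_iff_eq_neg] at this
          rw [this, map_neg, this] at e; rw [this]; simpa using e)]; simp)
    rw [mul_zero, ← h1, mul_sum]
    refine sum_congr rfl fun i _ => ?_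
    have := W.χ_mul_conjSum i (gE (ι t)) (gE (ι t))
    have hd := W.d_ne_zero i
    field_simp
    linear_combination (-a i : ℂ) * this
  rw [hsum] at r1 r3
  obtain ⟨q, hq⟩ := h16
  have dk := ck k hk (fun μ h => (hb μ h).2.1) 0
  have dl := ck l hl (fun μ h => (hb μ h).2.2) 0
  have dj := cj 0
  have tn : -t = t := neg_eq_of_add_eq_zero_left ht
  have hs : ∀ ψ : AddChar A ℂ, (∀ a, a + a = 0 → ψ a = 1) → ∀ a, a + a = 0 → s ψ a = 1 :=
    fun ψ h a e => h _ (by rw [← map_add, e, map_zero])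
  rw [ck k hk (fun μ h => (hb μ h).2.1), ck l hl (fun μ h => (hb μ h).2.2), cj, tn, if_neg ht0,
    hL2 t ht, hs L hL2 t ht, hs _ (hs L hL2) t ht] at r3
  simp only [c, W.χ_gE_of_ker_eq_top hi0, W.d_eq_one_of_ker_eq_top hi0] at r1 r3
  simp only [c0, neg_zero, if_true, AddChar.map_zero_eq_one, hq] at dk dl dj
  have := W.d_ne_zero j; have := W.d_ne_zero k; have := W.d_ne_zero l
  field_simp at r3
  have dk' : (W.d k : ℤ) = n k L * (16 * q) + a k := by exact_mod_cast dk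
  have dl' : (W.d l : ℤ) = n l L * (16 * q) + a l := by exact_mod_cast dl
  have r1' : 1 + a j * W.d j + a k * W.d k + a l * W.d l = 0 := by exact_mod_cast r1
  have r3' : (W.d j * W.d k * W.d l + 9 * a j ^ 3 * W.d k * W.d l + a k ^ 3 * W.d j * W.d l +
      a l ^ 3 * W.d j * W.d k : ℤ) = 0 := by
    have : (W.d j * W.d k * W.d l + 9 * a j ^ 3 * W.d k * W.d l + a k ^ 3 * W.d j * W.d l +
      a l ^ 3 * W.d j * W.d k : ℂ) = 0 := by linear_combination r3
    exact_mod_cast this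
  have := numeric (x := a k * W.d k) (y := a l * W.d l) (u := a k * n k L * q)
    (v := a l * n l L * q) (by rw [dk']; linear_combination hk) (by rw [dl']; linear_combination hl)
    (by
      linear_combination (a k * W.d k * (a l * W.d l) + a k * W.d k + a l * W.d l) * r1' -
        a j * a k * a l * r3' + 9 * (a j ^ 2 + 1) * a k * a l * W.d k * W.d l * hj +
        (a k ^ 2 + 1) * a j * a l * W.d j * W.d l * hk +
        (a l ^ 2 + 1) * a j * a k * W.d j * W.d k * hl)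
  have d1 : W.d k = 1 := by
    have := Int.eq_one_or_neg_one_of_mul_eq_one' this
    omega
  exact fun e => k0 (W.eq_of_ker_eq_top (top_le_iff.1 (e ▸ commutator_le_ker W d1)) hi0)

end Cfsg.Agent.H1.B4
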