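import Cfsg.Agent.H4.BM
import Cfsg.Agent.H4.Bits

/-! Held's theorem: a computable model `HC` of the centralizer of a transvection in `SL₅(2)`. -/

set_option autoImplicit false
set_option maxRecDepth 100000

namespace Cfsg.Agent.H1.He

open Subgroup Cfsg.Agent.H5 Cfsg.Agent.H4

abbrev SL5 : Type := Matrix.SpecialLinearGroup (Fin 5) (ZMod 2)
abbrev M5 : Type := Matrix (Fin 5) (Fin 5) (ZMod 2)

noncomputable instance (priority := high) decBall (n : ℕ) (P : ℕ → Prop) [DecidablePred P] :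
    Decidable (∀ i, i < n → P i) :=
  decidable_of_iff (allLt n (fun i => decide (P i)) = true) (by simp [allLt_iff])

noncomputable instance (priority := high) decBex (n : ℕ) (P : ℕ → Prop) [DecidablePred P] :
    Decidable (∃ i, i < n ∧ P i) :=
  decidable_of_iff (anyLt n (fun i => decide (P i)) = true) (by simp [anyLt_iff])

noncomputable instance (priority := high) decLall {β : Type} (l : List β) (P : β → Prop)
    [DecidablePred P] : Decidable (∀ i ∈ l, P i) :=
  decidable_of_iff (allL l (fun i => decide (P i)) = true) (by simp [allL_iff])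

noncomputable instance (priority := high) decLex {β : Type} (l : List β) (P : β → Prop)
    [DecidablePred P] : Decidable (∃ i ∈ l, P i) :=
  decidable_of_iff (anyL l (fun i => decide (P i)) = true) (by simp [anyL_iff])

def st (a b j k : ℕ) : ℕ :=
  Nat.mul (Nat.land (Nat.shiftRight b j) (nat_lit 1082401)) (Nat.land (Nat.shiftRight a k) (nat_lit 31))

/-- product of bit matrices -/
noncomputable def m5 (a b : ℕ) : ℕ :=
  force a fun a => force b fun b =>
    Nat.xor (Nat.xor (Nat.xor (Nat.xor (st a b (nat_lit 0) (nat_lit 0)) (st a b (nat_lit 1) (nat_lit 5)))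
      (st a b (nat_lit 2) (nat_lit 10))) (st a b (nat_lit 3) (nat_lit 15))) (st a b (nat_lit 4) (nat_lit 20))

theorem m5_eq (a b : ℕ) : m5 a b = mul2 5 a b := by
  have h1 : rep 5 1 5 = 1082401 := by decide
  have h2 : msk 5 = 31 := by decide
  simp only [mul2, bm2, force_eq, h1, h2, bmul, m5]
  change _ = Nat.xor (Nat.xor (Nat.xor (Nat.xor (Nat.xor 0 _) _) _) _) _
  rw [show ∀ x, Nat.xor 0 x = x from Nat.zero_xor]
  rfl

abbrev ev (a : ℕ) : M5 := ev2 (ZMod 2) 5 a

theorem ev_m5 (a b : ℕ) : ev (m5 a b) = ev a * ev b := by rw [m5_eq]; exact ev2_mul 5 a b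
theorem m5_lt (a b : ℕ) : m5 a b < 2 ^ 25 := by
  rw [m5_eq, mul2]; exact bm2_lt (n := 5) (by decide) _ _ _

def I5 : ℕ := nat_lit 17043521
def Z5 : ℕ := nat_lit 17043553

theorem ev_I5 : ev I5 = 1 := by
  rw [show I5 = one2 5 by decide +kernel]; exact ev2_one 5

theorem ev_inj {a b : ℕ} (ha : a < 2 ^ 25) (hb : b < 2 ^ 25) (h : ev a = ev b) : a = b :=
  eq_of_testBit_lt ha hb fun t ht => by
    have := congrFun (congrFun h ⟨t % 5, Nat.mod_lt _ (by decide)⟩) ⟨t / 5, by omega⟩
    simp only [ev2, Nat.div_add_mod] at this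
    exact bit_inj this

theorem exists_ev (A : M5) : ∃ a < 2 ^ 25, ev a = A := by
  refine ⟨Nat.ofBits fun t : Fin 25 => decide (A ⟨t % 5, Nat.mod_lt _ (by decide)⟩ ⟨t / 5, by omega⟩ = 1),
    Nat.ofBits_lt_two_pow _, ?_⟩
  funext i j
  have h : 5 * j.1 + i.1 < 25 := by omega
  simp only [ev2, H5.bit, Nat.testBit_ofBits_lt _ _ h]
  have e1 : (5 * j.1 + i.1) % 5 = i.1 := by omega
  have e2 : (5 * j.1 + i.1) / 5 = j.1 := by omega
  simp only [e1, e2, Fin.eta]
  generalize A i j = x
  revert x; decide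

theorem ev_Z5 : ev Z5 = Matrix.transvection 0 1 1 := by decide +kernel

def Val (c : ℕ) : Prop := c < 2 ^ 25 ∧ (ev c).det = 1 ∧ m5 c Z5 = m5 Z5 c

/-- the model group -/
structure HC where
  c : ℕ
  val : Val c

namespace HC

theorem ext' {a b : HC} (h : a.c = b.c) : a = b := by cases a; cases b; congr
theorem ext_ev {a b : HC} (h : ev a.c = ev b.c) : a = b := ext' (ev_inj a.val.1 b.val.1 h)

instance : DecidableEq HC := fun a b => decidable_of_iff (Nat.beq a.c b.c = true)
  ⟨fun h => ext' (Nat.eq_of_beq_eq_true h), fun h => h ▸ Nat.beq_refl _⟩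

theorem comm_ev (a : HC) : ev a.c * ev Z5 = ev Z5 * ev a.c := by
  rw [← ev_m5, a.val.2.2, ev_m5]

theorem val_of {c : ℕ} (h1 : c < 2 ^ 25) (h2 : (ev c).det = 1)
    (h3 : ev c * ev Z5 = ev Z5 * ev c) : Val c :=
  ⟨h1, h2, ev_inj (m5_lt _ _) (m5_lt _ _) (by rw [ev_m5, ev_m5, h3])⟩

noncomputable def mul (a b : HC) : HC := ⟨m5 a.c b.c, val_of (m5_lt _ _)
  (by rw [ev_m5, Matrix.det_mul, a.val.2.1, b.val.2.1, mul_one])
  (by rw [ev_m5, mul_assoc, b.comm_ev, ← mul_assoc, a.comm_ev, mul_assoc])⟩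

def one : HC := ⟨I5, val_of (by decide) (by rw [ev_I5, Matrix.det_one]) (by rw [ev_I5]; simp)⟩

theorem exists_inv (a : HC) : ∃ b : HC, ev b.c * ev a.c = 1 := by
  obtain ⟨b, h1, h2⟩ := exists_ev (ev a.c)⁻¹
  have hu : IsUnit (ev a.c).det := by rw [a.val.2.1]; exact isUnit_one
  have h3 : ev b * ev a.c = 1 := by rw [h2, Matrix.nonsing_inv_mul _ hu]
  have h4 : ev a.c * ev b = 1 := by rw [h2, Matrix.mul_nonsing_inv _ hu]
  refine ⟨⟨b, val_of h1 ?_ ?_⟩, h3⟩
  · have := congrArg Matrix.det h3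
    rwa [Matrix.det_mul, a.val.2.1, mul_one, Matrix.det_one] at this
  · calc _ = ev b * ev Z5 * (ev a.c * ev b) := by rw [h4, mul_one]
      _ = ev b * (ev Z5 * ev a.c) * ev b := by simp only [mul_assoc]
      _ = _ := by rw [← a.comm_ev, ← mul_assoc, h3, one_mul]

noncomputable instance : Group HC where
  mul := mul
  one := one
  inv a := a.exists_inv.choose
  mul_assoc a b c := ext_ev (by
    change ev (m5 (m5 _ _) _) = ev (m5 _ (m5 _ _)); simp only [ev_m5, mul_assoc])
  one_mul a := ext_ev (by change ev (m5 I5 _) = _; rw [ev_m5, ev_I5, one_mul])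
  mul_one a := ext_ev (by change ev (m5 _ I5) = _; rw [ev_m5, ev_I5, mul_one])
  inv_mul_cancel a := ext_ev (by
    change ev (m5 _ _) = ev I5; rw [ev_m5, ev_I5]; exact a.exists_inv.choose_spec)

theorem mul_c (a b : HC) : (a * b).c = m5 a.c b.c := rfl
theorem one_c : (1 : HC).c = I5 := rfl

instance : Finite HC := Finite.of_injective (fun a : HC => (⟨a.c, a.val.1⟩ : Fin (2 ^ 25)))
  fun _ _ h => ext' (congrArg Fin.val h)

/-- the embedding in `SL₅(2)` -/
noncomputable def toSL : HC →* SL5 where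
  toFun a := ⟨ev a.c, a.val.2.1⟩
  map_one' := Subtype.ext ev_I5
  map_mul' _ _ := Subtype.ext (ev_m5 _ _)

theorem toSL_inj : Function.Injective toSL := fun _ _ h => ext_ev (congrArg Subtype.val h)

end HC

theorem val_of_inv {c d : ℕ} (h : c < 2 ^ 25 ∧ m5 c d = I5 ∧ m5 c Z5 = m5 Z5 c) : Val c := by
  refine ⟨h.1, ?_, h.2.2⟩
  have := congrArg (fun x => (ev x).det) h.2.1
  simp only [ev_m5, Matrix.det_mul, ev_I5, Matrix.det_one] at this
  revert this
  generalize (ev c).det = x
  generalize (ev d).det = y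
  revert x y; decide

/-- scatter the bits of `n` to the positions `l` -/
noncomputable def sp (l : List ℕ) : ℕ → ℕ :=
  List.rec (motive := fun _ => ℕ → ℕ) (fun _ => nat_lit 0)
    (fun p _ ih n => force n fun n => Nat.lor (Nat.shiftLeft (Nat.land n (nat_lit 1)) p)
      (ih (Nat.shiftRight n (nat_lit 1)))) l

theorem sp_cons (p : ℕ) (l : List ℕ) (n : ℕ) :
    sp (p :: l) n = ((n &&& 1) <<< p) ||| sp l (n >>> 1) := rfl

theorem exists_sp (l : List ℕ) (c : ℕ) : ∃ n < 2 ^ l.length, ∀ t,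
    (sp l n).testBit t = (decide (t ∈ l) && c.testBit t) := by
  induction l with
  | nil => exact ⟨0, by simp, fun t => by simp [sp]⟩
  | cons p l ih =>
    obtain ⟨n, h1, h2⟩ := ih
    refine ⟨2 * n + (c.testBit p).toNat, ?_, fun t => ?_⟩
    · rw [List.length_cons, pow_succ]; have := Bool.toNat_le (c.testBit p); omega
    · have e1 : (2 * n + (c.testBit p).toNat) >>> 1 = n := by
        rw [Nat.shiftRight_eq_div_pow]; have := Bool.toNat_le (c.testBit p); omega
      have e2 : (2 * n + (c.testBit p).toNat) &&& 1 = (c.testBit p).toNat := by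
        rw [Nat.and_one_is_mod]; have := Bool.toNat_le (c.testBit p); omega
      rw [sp_cons, e1, e2, Nat.testBit_or, h2, Nat.testBit_shiftLeft]
      by_cases e : t = p
      · subst e; cases h : c.testBit t <;> simp
      · have e3 : (decide (t ≥ p) && (c.testBit p).toNat.testBit (t - p)) = false := by
          by_cases h : t ≥ p
          · have : (c.testBit p).toNat < 2 ^ (t - p) :=
              lt_of_le_of_lt (Bool.toNat_le _) (Nat.one_lt_two_pow (by omega))
            rw [Nat.testBit_lt_two_pow this, Bool.and_false]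
          · simp [h]
        rw [e3]; simp [e]

/-- a number supported on `l` is some `sp l n` -/
theorem exists_sp_eq {l : List ℕ} {M c : ℕ} (hM : ∀ t < 25, M.testBit t = false → t ∈ l)
    (hc : c < 2 ^ 25) (h : Nat.land c M = 0) : ∃ n < 2 ^ l.length, c = sp l n := by
  obtain ⟨n, h1, h2⟩ := exists_sp l c
  refine ⟨n, h1, Nat.eq_of_testBit_eq fun t => ?_⟩
  rw [h2]
  by_cases ht : t < 25
  · by_cases e : t ∈ l
    · simp [e]
    · have h3 := congrArg (fun x => x.testBit t) h
      have h4 : M.testBit t = true := by_contra fun e1 => e (hM t ht (by simpa using e1))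
      change (c &&& M).testBit t = _ at h3
      rw [Nat.testBit_and, h4] at h3
      simpa [e] using h3
  · rw [Nat.testBit_lt_two_pow (lt_of_lt_of_le hc (Nat.pow_le_pow_right two_pos (by omega)))]; simp

def lT : List ℕ := [nat_lit 9, nat_lit 23, nat_lit 8, nat_lit 17, nat_lit 22, nat_lit 7, nat_lit 10,
  nat_lit 15, nat_lit 20, nat_lit 5]
def UM : ℕ := nat_lit 13797280
def uc (c : ℕ) : ℕ := Nat.xor (Nat.land c UM) I5

theorem val_uc0 : ∀ n < 1024, uc (sp lT n) < 2 ^ 25 ∧
    m5 (uc (sp lT n)) (force (uc (sp lT n)) fun x => force (m5 x x) fun y => m5 (m5 x y) (m5 y y)) = I5 ∧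
    m5 (uc (sp lT n)) Z5 = m5 Z5 (uc (sp lT n)) := by decide +kernel

theorem land_UM (c : ℕ) : ∃ n < 1024, Nat.land c UM = sp lT n :=
  exists_sp_eq (l := lT) (M := 2 ^ 25 - 1 - UM) (by decide +kernel)
    (lt_of_le_of_lt Nat.and_le_right (by decide)) (by
      change c &&& UM &&& _ = 0
      rw [Nat.and_assoc, show UM &&& (2 ^ 25 - 1 - UM) = 0 by decide +kernel, Nat.and_zero])

theorem val_uc (c : ℕ) : Val (uc c) := by
  obtain ⟨n, hn, e⟩ := land_UM c
  have : uc c = uc (sp lT n) := by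
    rw [← e]; change _ = (c &&& UM &&& UM) ^^^ I5; rw [Nat.and_assoc, Nat.and_self]; rfl
  rw [this]
  exact val_of_inv (val_uc0 n hn)

/-- the unitriangular matrix with the given entries -/
def u (c : ℕ) : HC := ⟨uc c, val_uc c⟩

/-- the `n`-th element supported on `l` -/
noncomputable def e (l : List ℕ) (n : ℕ) : HC := u (sp l n)

/-- root element -/
def x (p : ℕ) : HC := u (Nat.shiftLeft (nat_lit 1) p)

/-- gather the bits at the positions `l` -/
noncomputable def ga (l : List ℕ) (c : ℕ) : ℕ :=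
  force c fun c => List.rec (motive := fun _ => ℕ) (nat_lit 0)
    (fun p _ ih => Nat.lor (Nat.land (Nat.shiftRight c p) (nat_lit 1)) (Nat.shiftLeft ih (nat_lit 1))) l

noncomputable def prodL (l : List ℕ) : ℕ → HC :=
  List.rec (motive := fun _ => ℕ → HC) (fun _ => 1)
    (fun p _ ih n => (if n % 2 = 1 then x p else 1) * ih (n / 2)) l

theorem prodL_mem {K : Subgroup HC} {l : List ℕ} (h : ∀ p ∈ l, x p ∈ K) (n : ℕ) : prodL l n ∈ K := by
  induction l generalizing n with
  | nil => exact one_mem K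
  | cons p l ih =>
    refine mul_mem ?_ (ih (fun q hq => h q (List.mem_cons_of_mem _ hq)) _)
    split_ifs
    · exact h p List.mem_cons_self
    · exact one_mem K

def Pm (M : ℕ) (h : HC) : Prop := Nat.land (Nat.xor h.c I5) M = 0

instance (M : ℕ) : DecidablePred (Pm M) := fun _ => Nat.decEq _ _

def POK (l : List ℕ) (M k : ℕ) : Prop :=
  k = 2 ^ l.length ∧ (∀ t < 25, M.testBit t = false → t ∈ l) ∧ ∀ n < k,
    (uc (sp l n) = Nat.xor (sp l n) I5 ∧ Pm M (e l n) ∧ ga l (e l n).c = n ∧ e l n = prodL l n) ∧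
      ∀ p ∈ l, Pm M (x p * e l n)

noncomputable instance (l : List ℕ) (M k : ℕ) : Decidable (POK l M k) := by
  unfold POK; infer_instance

theorem POK.enum {l : List ℕ} {M k : ℕ} (H : POK l M k) {h : HC} (hh : Pm M h) :
    ∃ n < k, h = e l n := by
  obtain ⟨n, h1, h2⟩ := exists_sp_eq H.2.1 (Nat.xor_lt_two_pow h.val.1 (show I5 < 2 ^ 25 by decide)) hh
  rw [← H.1] at h1
  refine ⟨n, h1, HC.ext' ?_⟩
  change _ = uc _
  rw [(H.2.2 n h1).1.1, ← h2]
  exact (Nat.xor_xor_cancel_right _ _).symm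

theorem POK.mul_prodL {l : List ℕ} {M k : ℕ} (H : POK l M k) {l' : List ℕ} (hl : l' ⊆ l) (n : ℕ)
    {h : HC} (hh : Pm M h) : Pm M (prodL l' n * h) := by
  induction l' generalizing n with
  | nil => exact (one_mul h).symm ▸ hh
  | cons p l' ih =>
    obtain ⟨m, h1, h2⟩ := H.enum (ih (fun q hq => hl (List.mem_cons_of_mem _ hq)) (n / 2))
    change Pm M ((if n % 2 = 1 then x p else 1) * prodL l' (n / 2) * h)
    rw [mul_assoc, h2]
    split_ifs
    · exact (H.2.2 m h1).2 p (hl List.mem_cons_self)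
    · rw [one_mul]; exact (H.2.2 m h1).1.2.1

theorem POK.mul {l : List ℕ} {M k : ℕ} (H : POK l M k) {a b : HC} (ha : Pm M a) (hb : Pm M b) :
    Pm M (a * b) := by
  obtain ⟨n, h1, rfl⟩ := H.enum ha
  rw [(H.2.2 n h1).1.2.2.2]
  exact H.mul_prodL (List.Subset.refl l) n hb

/-- pattern subgroups -/
def pat {l : List ℕ} {M k : ℕ} (H : POK l M k) : Subgroup HC where
  carrier := {h | Pm M h}
  mul_mem' := H.mul
  one_mem' := by change Nat.land (I5 ^^^ I5) M = 0; rw [Nat.xor_self]; exact Nat.zero_and M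
  inv_mem' {a} ha := by
    have h1 : ∀ n : ℕ, Pm M (a ^ (n + 1)) := fun n => by
      induction n with
      | zero => simpa using ha
      | succ n ih => rw [pow_succ]; exact H.mul ih ha
    have h2 : a⁻¹ = a ^ (2 * orderOf a - 2 + 1) := by
      have := orderOf_pos a
      rw [inv_eq_iff_mul_eq_one, ← pow_succ', show 2 * orderOf a - 2 + 1 + 1 = orderOf a * 2 by omega,
        pow_mul, pow_orderOf_eq_one, one_pow]
    rw [h2]; exact h1 _

section pat
variable {l : List ℕ} {M k : ℕ} {H : POK l M k}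

instance : DecidablePred (· ∈ pat H) := fun h => inferInstanceAs (Decidable (Pm M h))

theorem e_mem {n : ℕ} (hn : n < k) : e l n ∈ pat H := (H.2.2 n hn).1.2.1

theorem forall_pat {Q : HC → Prop} (h : ∀ n < k, Q (e l n)) : ∀ a ∈ pat H, Q a := fun a ha => by
  obtain ⟨n, h1, rfl⟩ := H.enum ha; exact h n h1

theorem pat_le {K : Subgroup HC} (h : ∀ p ∈ l, x p ∈ K) : pat H ≤ K :=
  forall_pat fun n hn => (H.2.2 n hn).1.2.2.2 ▸ prodL_mem h n

theorem e_ga {a : HC} (ha : a ∈ pat H) : ga l a.c < k ∧ e l (ga l a.c) = a := by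
  obtain ⟨n, h1, rfl⟩ := H.enum ha
  rw [(H.2.2 n h1).1.2.2.1]; exact ⟨h1, rfl⟩

theorem card_pat : Nat.card (pat H) = k := by
  refine Eq.trans ?_ (Nat.card_eq_fintype_card.trans (Fintype.card_fin k))
  refine Nat.card_congr ⟨fun a => ⟨_, (e_ga a.2).1⟩, fun n => ⟨_, e_mem n.2⟩,
    fun a => Subtype.ext (e_ga a.2).2, fun n => Fin.ext (H.2.2 n n.2).1.2.2.1⟩

end pat

def lJ : List ℕ := [nat_lit 23, nat_lit 8, nat_lit 17, nat_lit 22, nat_lit 7, nat_lit 15, nat_lit 20, nat_lit 5]
def l1 : List ℕ := [nat_lit 17, nat_lit 22, nat_lit 7, nat_lit 15, nat_lit 20, nat_lit 5]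
def l2 : List ℕ := [nat_lit 23, nat_lit 8, nat_lit 22, nat_lit 7, nat_lit 20, nat_lit 5]
def lW : List ℕ := [nat_lit 22, nat_lit 7, nat_lit 20, nat_lit 5]
def lE1 : List ℕ := [nat_lit 10, nat_lit 15, nat_lit 20, nat_lit 5]
def lE2 : List ℕ := [nat_lit 9, nat_lit 8, nat_lit 7, nat_lit 5]

theorem okT : POK lT (nat_lit 19757151) 1024 := by decide +kernel
theorem okJ : POK lJ (nat_lit 19758687) 256 := by decide +kernel
theorem ok1 : POK l1 (nat_lit 28147551) 64 := by decide +kernel
theorem ok2 : POK l2 (nat_lit 19922527) 64 := by decide +kernel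
theorem okW : POK lW (nat_lit 28311391) 16 := by decide +kernel
theorem okE1 : POK lE1 (nat_lit 32472031) 16 := by decide +kernel
theorem okE2 : POK lE2 (nat_lit 33553503) 16 := by decide +kernel

abbrev T0 : Subgroup HC := pat okT
abbrev J0 : Subgroup HC := pat okJ
abbrev R1 : Subgroup HC := pat ok1
abbrev R2 : Subgroup HC := pat ok2
abbrev W0 : Subgroup HC := pat okW
abbrev E1 : Subgroup HC := pat okE1
abbrev E2 : Subgroup HC := pat okE2

/-! ### the cosets of `T0` -/

def dig (N w i : ℕ) : ℕ := Nat.land (Nat.shiftRight N (Nat.mul w i)) (Nat.pred (Nat.shiftLeft (nat_lit 1) w))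

def wc (i : ℕ) : ℕ := dig (nat_lit 0x820820c104106082083041041820820c104106082083041041820820c104106082083023041811020a304105102082827041413020a0941050480824a3041251020920c10490408246704123302091941048c80824470412230209114104888083041041) (nat_lit 25) (Nat.land i (nat_lit 31))
def wd (i : ℕ) : ℕ := dig (nat_lit 0x820820c104106082083041041820820c104106082083041041820820c104106082083062041811020e204105102083c82041a41020b2081049040838a4041c12020a290105048082cc4041e62020d310104988083c44041622020d110104888083041041) (nat_lit 25) (Nat.land i (nat_lit 31))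
def wt (n : ℕ) : ℕ := dig (nat_lit 0x9c43632e58510e78ce2658513e39c22e58528d00672658523d034e9e58638a28a28a78e29a69a69a69e60c40428e58671e736394c8519c88ce94a8513e316794a8528d09c694c8523d034e9678638a28a29e28e21c81469638679a69a69a69e61c49e32cc8650c88e724a8659e31422ca8658e704624c8659a69a69a69e68a28a28a28e71c81469e38650c40428e78659249279249649249e49249649279249249649e49249249649249249249679a69a69a69e69249249279649249249e49641e53639cc8510e58ce2678519a69a69a69e68e504624c8679e534e4d48638a78a28a28e21e59c64e38400e50678d48409443632e78519488ce9ca8519631422ca8679a69a69a69e696734e4d48639e28a28a28e29481674e38409449c28d48409a69a69a69e60c88e524a8673e31659ca8528d00652678523d09e54d48638a28a78a28e29c81654e38400e70658d48401c49632cc8679a69a69a69e63e39422e78528d09469cc8523d09674d48638a29e28a28e21e79464e38409c49428d4840) (nat_lit 6) (Nat.land n (nat_lit 511))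
def l16 : List ℕ := [nat_lit 12, nat_lit 13, nat_lit 14, nat_lit 17, nat_lit 18, nat_lit 19, nat_lit 22,
  nat_lit 23, nat_lit 24, nat_lit 5, nat_lit 7, nat_lit 8, nat_lit 9, nat_lit 10, nat_lit 15, nat_lit 20]

theorem wv : ∀ i < 32, (wc i < 2 ^ 25 ∧ m5 (wc i) (wd i) = I5 ∧ m5 (wc i) Z5 = m5 Z5 (wc i)) ∧
    wd i < 2 ^ 25 ∧ m5 (wd i) (wc i) = I5 ∧ m5 (wd i) Z5 = m5 Z5 (wd i) := by decide +kernel

theorem land31 (i : ℕ) : Nat.land (Nat.land i 31) 31 = Nat.land i 31 := by
  change i &&& 31 &&& 31 = _; rw [Nat.and_assoc, Nat.and_self]; rfl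

theorem wv' (i : ℕ) : (wc i < 2 ^ 25 ∧ m5 (wc i) (wd i) = I5 ∧ m5 (wc i) Z5 = m5 Z5 (wc i)) ∧
    wd i < 2 ^ 25 ∧ m5 (wd i) (wc i) = I5 ∧ m5 (wd i) Z5 = m5 Z5 (wd i) := by
  have := wv (Nat.land i 31) (Nat.lt_succ_of_le Nat.and_le_right)
  simpa only [wc, wd, land31] using this

def w (i : ℕ) : HC := ⟨wc i, val_of_inv (wv' i).1⟩
def w' (i : ℕ) : HC := ⟨wd i, val_of_inv (wv' i).2⟩
theorem w_mul (i : ℕ) : w i * w' i = 1 := HC.ext' (wv' i).1.2.1
theorem w_inv (i : ℕ) : (w i)⁻¹ = w' i := inv_eq_of_mul_eq_one_right (w_mul i)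

noncomputable def cov (n : ℕ) : ℕ :=
  force n fun n => force (Nat.xor (sp l16 n) I5) fun c => force (wt n) fun k =>
    ifz (Nat.sub k (nat_lit 20)) (Nat.land (Nat.xor (m5 (wd k) c) I5) (nat_lit 19757151))
      (force (Nat.shiftLeft (Nat.land k (nat_lit 7)) (nat_lit 2)) fun v =>
        ifz v (nat_lit 1) (ifz (m5 c v) (nat_lit 0) (m5 c (Nat.succ v))))

theorem cov0 : ∀ a < 256, ∀ b < 256, cov (Nat.add (Nat.mul 256 a) b) = 0 := by decide +kernel

theorem shape (h : HC) : Nat.land (Nat.xor h.c I5) 2164831 = 0 := by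
  have h1 := h.comm_ev
  have h2 := h.val.2.1
  rw [ev_Z5] at h1
  have h3 : ∀ a : Fin 5, a ≠ 0 → ev h.c a 0 = 0 := fun a ha => by
    have := congrFun (congrFun h1 a) 1
    rw [Matrix.mul_transvection_apply_same, Matrix.transvection_mul_apply_of_ne _ _ _ _ ha] at this
    simpa using this
  have h4 : ∀ b : Fin 5, b ≠ 1 → ev h.c 1 b = 0 := fun b hb => by
    have := congrFun (congrFun h1 0) b
    rw [Matrix.transvection_mul_apply_same, Matrix.mul_transvection_apply_of_ne _ _ _ _ hb] at this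
    simpa using this
  have h5 : ev h.c 0 0 = ev h.c 1 1 := by
    have := congrFun (congrFun h1 0) 1
    rw [Matrix.transvection_mul_apply_same, Matrix.mul_transvection_apply_same] at this
    simpa using this
  have h6 : ev h.c 0 0 = 1 := by
    by_contra e1
    have e2 : ev h.c 0 0 = 0 := by revert e1; generalize ev h.c 0 0 = y; revert y; decide
    rw [Matrix.det_eq_zero_of_column_eq_zero 0 fun a => by
      by_cases ha : a = 0
      · rw [ha, e2]
      · exact h3 a ha] at h2
    exact zero_ne_one h2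
  have h7 : ∀ i j : Fin 5, j = 0 ∨ i = 1 → ev h.c i j = ev I5 i j := fun i j hij => by
    rw [ev_I5, Matrix.one_apply]
    rcases hij with rfl | rfl
    · split_ifs with e1
      · rw [e1, h6]
      · exact h3 i e1
    · split_ifs with e1
      · rw [← e1, ← h5, h6]
      · exact h4 j (Ne.symm e1)
  refine Nat.eq_of_testBit_eq fun t => ?_
  change ((h.c ^^^ I5) &&& 2164831).testBit t = _
  rw [Nat.testBit_and, Nat.testBit_xor, Nat.zero_testBit]
  by_cases ht : t < 25
  · cases e1 : Nat.testBit 2164831 t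
    · simp
    · have e2 : ∀ t < 25, Nat.testBit 2164831 t = true → t / 5 = 0 ∨ t % 5 = 1 := by decide +kernel
      have e3 := h7 ⟨t % 5, Nat.mod_lt _ (by decide)⟩ ⟨t / 5, by omega⟩
        ((e2 t ht e1).imp Fin.ext Fin.ext)
      simp only [ev2, Nat.div_add_mod] at e3
      simp [bit_inj e3]
  · rw [Nat.testBit_lt_two_pow (x := 2164831) (lt_of_lt_of_le (by decide)
      (Nat.pow_le_pow_right two_pos (not_lt.1 ht)))]; simp

theorem ne_zero_of {h : HC} {v : ℕ} (h1 : v < 2 ^ 25) (h2 : m5 h.c v = 0) : v = 0 := by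
  obtain ⟨b, hb⟩ := h.exists_inv
  have e0 : ev 0 = 0 := by decide +kernel
  refine ev_inj h1 (by decide) ?_
  rw [← one_mul (ev v), ← hb, mul_assoc, ← ev_m5, h2, e0, mul_zero]

theorem cover (h : HC) : ∃ i < 21, ∃ τ ∈ T0, h = w i * τ := by
  obtain ⟨n, h1, h2⟩ := exists_sp_eq (l := l16) (by decide +kernel)
    (Nat.xor_lt_two_pow h.val.1 (show I5 < 2 ^ 25 by decide)) (shape h)
  have h3 := cov0 (n / 256) (by change n < 65536 at h1; omega) (n % 256) (Nat.mod_lt _ (by decide))
  rw [show Nat.add (Nat.mul 256 (n / 256)) (n % 256) = n from Nat.div_add_mod n 256] at h3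
  have h4 : Nat.xor (sp l16 n) I5 = h.c := by rw [← h2]; exact Nat.xor_xor_cancel_right _ _
  simp only [cov, force_eq, ifz_eq, h4] at h3
  split_ifs at h3 with e1 e2 e3
  · refine ⟨wt n, by change wt n - 20 = 0 at e1; omega, w' (wt n) * h, h3, ?_⟩
    rw [← mul_assoc, w_mul, one_mul]
  all_goals
    have e4 : Nat.shiftLeft (Nat.land (wt n) 7) 2 ≤ 28 := by
      change (wt n &&& 7) <<< 2 ≤ 28
      rw [Nat.shiftLeft_eq]; have : wt n &&& 7 ≤ 7 := Nat.and_le_right; omega
  · exact absurd (ne_zero_of (by omega) e3) e2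
  · exact absurd (ne_zero_of (by omega) h3) (Nat.succ_ne_zero _)

/-- the central involution -/
def z : HC := x 5

theorem range_toSL {s : SL5} (hs : (s : M5) = Matrix.transvection 0 1 1) :
    HC.toSL.range = centralizer {s} ∧ HC.toSL z = s := by
  refine ⟨Subgroup.ext fun g => ?_, Subtype.ext ?_⟩
  · rw [mem_centralizer_singleton_iff]
    constructor
    · rintro ⟨a, rfl⟩
      refine Subtype.ext ?_
      change ev a.c * s = s * ev a.c
      rw [hs, ← ev_Z5, a.comm_ev]
    · intro hg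
      obtain ⟨c, h1, h2⟩ := exists_ev (g : M5)
      have h3 := congrArg Subtype.val hg
      refine ⟨⟨c, HC.val_of h1 (by rw [h2]; exact g.2) ?_⟩, Subtype.ext h2⟩
      rw [h2, ev_Z5, ← hs]; exact h3
  · rw [hs, ← ev_Z5]; rfl

end Cfsg.Agent.H1.He
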