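import Cfsg.Agent.H1.He1

/-! Held's theorem: finite facts about the model `HC`. -/

set_option autoImplicit false
set_option maxRecDepth 100000

namespace Cfsg.Agent.H1.He

open Subgroup Cfsg.Agent.H5 Cfsg.Agent.H4

def x12 : HC := x (nat_lit 10)
def x13 : HC := x (nat_lit 15)
def x14 : HC := x (nat_lit 20)
def x23 : HC := x (nat_lit 17)
def x24 : HC := x (nat_lit 22)
def x25 : HC := x (nat_lit 7)
def x34 : HC := x (nat_lit 23)
def x35 : HC := x (nat_lit 8)
def x45 : HC := x (nat_lit 9)
def t : HC := u (nat_lit 1048704)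
def t1 : HC := u (nat_lit 5242912)
def rp (k : ℕ) : HC := u (dig (nat_lit 0x20008010200008000404000000800400000200200000000020) (nat_lit 25) k)
noncomputable def cl (h : HC) : ℕ := dig (nat_lit 0xfffffffff6fffffffffffffffff3ff3ffffffffffffff6ffffffffffff3ffff1ff7ffff4fffffff6fffffff6ff3ffff3ff7ffff5fffffff6fffffff6ff3ffff1ffffffffffffffffffffffffff3fff3ffffffffffffffffffffffffff6f3f6f1fffffff6f4f7f7f4fffffff6f7f3f7f3fffffff6f7f7f5f5fffffff6f4f3f5f1fffffffff6ffffffffffffffff33fffffffffffffffff6ffffffffffffffff31fffffff6fffffff6ffffff74ffffff33fffffff6fffffff6ffffff75ffffff31fffffffffffffffffffffffffffffffffffffffffffffffffffffffff633f631ff7ffff5f5f7f7f5ffffff75f722f722ff7ffff5f7f7f5f5ffffff75f522f520fffffffff6fffffffffffffffff3ff3ffffffffffffff6ffffffffffff3ffff1ff7ffff5fffffff6fffffff6ff3ffff3ff7ffff4fffffff6fffffff6ff3ffff1ffffffffffffffffffffffffff3fff3ffffffffffffffffffffffffff6f3f6f1fffffff6f5f7f7f5fffffff6f7f3f7f3fffffff6f7f7f4f4fffffff6f5f3f4f1fffffffff6ffffffffffffffff33fffffffffffffffff6ffffffffffffffff31fffffff6fffffff6ffffff75ffffff33fffffff6fffffff6ffffff74ffffff31fffffffffffffffffffffffffffffffffffffffffffffffffffffffff633f631ff7ffff4f4f7f7f4ffffff74f722f722ff7ffff4f7f7f4f4ffffff74f422f428)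 (nat_lit 4) (ga lT h.c)
def cwn (n : ℕ) : ℕ := dig (nat_lit 0x1d0000000000000000000000000000000000000000000000000000000000000000002c0000000001300000000000000000000000000000000000000000000000000000035000000000000000000000000000000000000000000000001380000000000000000260000000041900000000000000008320000000000000000000000000000600000000000000000000000000000710000000001800000000000000000320000000049900000000000000008120000000000000000000000000000c00000000000000000000000000000d100000000017800000000000000002f000000000000000000000000000000000000000000000000000000000000000000000000000000000000000000000000000120000000000000110000000000000000000000000000000000000000000000000000000000000000000000000000000000000000000000000001cc000002b0000034c00000220000000000000000000000000000b2000020d00000820000024d000008200000000000000000000000000000b1000020cc0000034000024cc0000020000000000000000000000000000092000020d00000920000020500000800000000000000000000000000000091000020cc00000330000204c0000020000000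000000000000000000000000000002d0000000000000000000000000000000000000000000000000000000000000014002a0000000000000000000000000000000000000000000000000000000000000000025000000000000000000000000000000000000000000000000000000000000001280250000000000000000000000000000720000000000000000000000000000a00000000000000000000000041888310000000000000000000000001700310000000000000000000000000000d200000000000000000000000000008000000000000000000000000498881100000000000000000000000016802d000000000000000000000000000000000000000000000000000000000000000000000000000000000000000000000000000000000000000000000000000000000000000000000000000000000000000000000000000000000000000000000000000000000000000000000002cc01180290000024c0108021000000008190000000000000000032000000d00001020000040500000020000000000000000000000008188031000040cc402080a0000404c4010800000000008090000000000000000012000040d00001000000000500000000000000000000000000000008088011000000cc40188090000004c4008000000000000000000000000000000000000003d000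0000000000000000000000000000000000000000000000000000000000000000c0000000000300000000000000000000000000000000000000000000000000000015000000000000000000000000000000000000000000000000380000000000000000060000000048900000000000000008320000000000000000000000000000e00000000000000000000000000000f100000000008000000000000000001200000000409000000000000000081200000000000000000000000000004000000000000000000000000000005100000000007800000000000000000f000000000000000000000000000000000000000000000000000000000000000000000000000000000000000000000000000020000000000000010000000000000000000000000000000000000000000000000000000000000000000000000000000000000000000000000003cc000000b0000014c0000002000000000000000000000000000032000020d000009000000205000008200000000000000000000000000000310000244c00000140000204c0000000000000000000000000000000000012000024500000800000020500000800000000000000000000000000000011000020cc00000130000204c0000000000000000000000000000000000000000000d0000000000000000000000000000000000000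000000000000000000000000004000a0000000000000000000000000000000000000000000000000000000000000000005000000000000000000000000000000000000000000000000000000000000000280050000000000000000000000000000f200000000000000000000000000002000000000000000000000000488883100000000000000000000000007001100000000000000000000000000005200000000000000000000000000000000000000000000000000000408881100000000000000000000000006800d000000000000000000000000000000000000000000000000000000000000000000000000000000000000000000000000000000000000000000000000000000000000000000000000000000000000000000000000000000000000000000000000000000000000000000000000cc00180090000004c0008001000000000190000000000000000032000000d00000020000000500000020000000000000000000000000188031000000cc002000a0000004c0010000000000000090000000000000000012000000d00000000000000500000000000000000000000000000000088011000000cc00180090000004c0008000) (nat_lit 15) n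
noncomputable def cw (h : HC) : HC :=
  w (cwn (ga lT h.c)) * e lT (Nat.shiftRight (cwn (ga lT h.c)) (nat_lit 5))
noncomputable def ti (y : HC) : HC := y * (y * y) * ((y * y) * (y * y))
def SQ : ℕ := nat_lit 0x40001200040021210101212101012100000022000000550155015501550155004000300004000301010303010103030000000000000077215503772155037700400012000400212101012121010121000000220000005501550155015501550040003000040003010103030101030300000000000000772155037721550377

theorem cls : ∀ y ∈ T0, y * y = 1 → cl y < 9 ∧ cw y * rp (cl y) = y * cw y :=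
  forall_pat (by decide +kernel)
theorem ti_mul : ∀ y ∈ T0, y * ti y = 1 := forall_pat (by decide +kernel)
theorem inv_T {y : HC} (h : y ∈ T0) : y⁻¹ = ti y := inv_eq_of_mul_eq_one_right (ti_mul y h)
theorem expJ : ∀ y ∈ J0, y * y * (y * y) = 1 := forall_pat (by decide +kernel)
theorem ctrT : ∀ y ∈ T0, y * x12 = x12 * y → y * x23 = x23 * y → y * x34 = x34 * y →
    y * x45 = x45 * y → y = 1 ∨ y = z := forall_pat (by decide +kernel)
theorem nrmT0 : ∀ i < 21, w i ∈ T0 ∨ ∃ p ∈ lT, w i * x p * w' i ∉ T0 := by decide +kernel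
theorem xx : ∀ p ∈ lT, x p * x p = 1 ∧ x p ∈ T0 := by decide +kernel
theorem sq0 : ∀ n < 1024, e lT n * e lT n = 1 → tb SQ n = true := by decide +kernel
theorem cnt0 : ∀ n < 1024, tb SQ n = true → e lT n ∈ J0 ∨
    countLt 1024 (fun m => band (tb SQ m) (decide (e lT n * e lT m = e lT m * e lT n))) < 64 := by
  decide +kernel
theorem invJ : ∀ y ∈ J0, y * y = 1 → y ∈ R1 ∨ y ∈ R2 := forall_pat (by decide +kernel)
theorem comm12 : ∀ a ∈ R1, ∀ b ∈ R2, a * b = b * a → a ∈ R2 ∨ b ∈ R1 :=
  forall_pat fun n hn => forall_pat ((by decide +kernel : ∀ n < 64, ∀ m < 64,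
    e l1 n * e l2 m = e l2 m * e l1 n → e l1 n ∈ R2 ∨ e l2 m ∈ R1) n hn)
theorem ab1 : ∀ a ∈ R1, a * a = 1 ∧ ∀ b ∈ R1, a * b = b * a :=
  forall_pat fun n hn => ((by decide +kernel : ∀ n < 64, e l1 n * e l1 n = 1 ∧ ∀ m < 64,
    e l1 n * e l1 m = e l1 m * e l1 n) n hn).imp_right forall_pat
theorem ab2 : ∀ a ∈ R2, a * a = 1 ∧ ∀ b ∈ R2, a * b = b * a :=
  forall_pat fun n hn => ((by decide +kernel : ∀ n < 64, e l2 n * e l2 n = 1 ∧ ∀ m < 64,
    e l2 n * e l2 m = e l2 m * e l2 n) n hn).imp_right forall_pat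
theorem R1J : R1 ≤ J0 := pat_le (by decide +kernel)
theorem R2J : R2 ≤ J0 := pat_le (by decide +kernel)
theorem JT : J0 ≤ T0 := pat_le (by decide +kernel)
theorem WR1 : W0 ≤ R1 := pat_le (by decide +kernel)
theorem WR2 : W0 ≤ R2 := pat_le (by decide +kernel)
theorem E1T : E1 ≤ T0 := pat_le (by decide +kernel)
theorem E2T : E2 ≤ T0 := pat_le (by decide +kernel)
theorem memW : ∀ y ∈ R1, y ∈ R2 → y ∈ W0 := forall_pat (by decide +kernel)
theorem nR1 : ∀ p ∈ lT, ∀ q ∈ l1, x p * x q * x p ∈ R1 := by decide +kernel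
theorem nR2 : ∀ p ∈ lT, ∀ q ∈ l2, x p * x q * x p ∈ R2 := by decide +kernel
theorem nE1 : (∀ p ∈ lT, ∀ q ∈ lE1, x p * x q * x p ∈ E1) ∧
    ∀ i < 21, ∀ q ∈ lE1, w i * x q * w' i ∈ E1 := by decide +kernel
theorem nE2 : (∀ p ∈ lT, ∀ q ∈ lE2, x p * x q * x p ∈ E2) ∧
    ∀ i < 21, ∀ q ∈ lE2, w i * x q * w' i ∈ E2 := by decide +kernel
theorem cR1 : ∀ y ∈ T0, (∀ p ∈ l1, x p * y = y * x p) → y ∈ R1 := forall_pat (by decide +kernel)
theorem cR2 : ∀ y ∈ T0, (∀ p ∈ l2, x p * y = y * x p) → y ∈ R2 := forall_pat (by decide +kernel)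
theorem memx : (∀ p ∈ l1, x p ∈ R1) ∧ (∀ p ∈ l2, x p ∈ R2) ∧ (∀ p ∈ lW, x p ∈ W0) ∧
    ∀ p ∈ lJ, x p ∈ J0 := by decide +kernel

theorem cent_le {y : HC} {L : List ℕ} (h1 : ∀ n < 1024, ∃ c ∈ L, e lT n * y = u c * e lT n)
    (h2 : ∀ i < 21, w i ∈ T0 ∨ ∀ c ∈ L, w i * u c ≠ y * w i) {g : HC} (hg : g * y = y * g) :
    g ∈ T0 := by
  obtain ⟨i, hi, τ, hτ, rfl⟩ := cover g
  obtain ⟨c, h3, h4⟩ := forall_pat (Q := fun τ => ∃ c ∈ L, τ * y = u c * τ) h1 τ hτ
  refine mul_mem ((h2 i hi).resolve_right fun h5 => h5 c h3 ?_) hτ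
  rw [mul_assoc, h4, ← mul_assoc, ← mul_assoc] at hg
  exact mul_right_cancel hg

theorem cent_t {g : HC} (hg : g * t = t * g) : g ∈ T0 :=
  cent_le (L := [nat_lit 1048704, nat_lit 1048736]) (by decide +kernel) (by decide +kernel) hg
theorem cent_v {g : HC} (hg : g * rp 5 = rp 5 * g) : g ∈ T0 :=
  cent_le (L := [nat_lit 4194336, nat_lit 4194464, nat_lit 5242912, nat_lit 5243008]) (by decide +kernel) (by decide +kernel) hg

theorem cm12 : ∀ a ∈ R1, ∀ b ∈ R2, a * b * a * b ≠ t ∧ a * b * a * b ≠ rp 5 ∧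
    (x13 * a ∈ W0 → a * b * a * b ≠ rp 2 ∧ a * b * a * b ≠ rp 4) ∧
    (x35 * b ∈ W0 → a * b * a * b ≠ rp 1 ∧ a * b * a * b ≠ rp 4) :=
  forall_pat fun n hn => forall_pat ((by decide +kernel : ∀ n < 64, ∀ m < 64,
    e l1 n * e l2 m * e l1 n * e l2 m ≠ t ∧ e l1 n * e l2 m * e l1 n * e l2 m ≠ rp 5 ∧
    (x13 * e l1 n ∈ W0 → e l1 n * e l2 m * e l1 n * e l2 m ≠ rp 2 ∧ e l1 n * e l2 m * e l1 n * e l2 m ≠ rp 4) ∧
    (x35 * e l2 m ∈ W0 → e l1 n * e l2 m * e l1 n * e l2 m ≠ rp 1 ∧
      e l1 n * e l2 m * e l1 n * e l2 m ≠ rp 4)) n hn)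
theorem clz : ∀ y ∈ T0, y * y = 1 → (cl (y * z) = cl y ∨ cl y = 0 ∨ cl y = 4 ∨ cl y = 5 ∨ cl y = 8) ∧
    (cl y = 8 → y = 1) ∧ (cl y = 0 → y = z) := forall_pat (by decide +kernel)
theorem rp0 : ∀ k < 9, cl (rp k) = k ∧ rp k ∈ T0 ∧ rp k * rp k = 1 := by decide +kernel
theorem rp_eq : rp 0 = z ∧ rp 1 = x14 ∧ rp 2 = x25 ∧ rp 3 = t ∧ rp 4 = x24 ∧ rp 8 = 1 := by
  decide +kernel
theorem clE1 : ∀ y ∈ E1, y * y = 1 ∧ y * z = z * y ∧ (cl y = 0 ∨ cl y = 1 ∨ y = 1) ∧
    x24 * y * x24 * y ≠ z ∧ y * x14 = x14 * y := forall_pat (by decide +kernel)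
theorem clE2 : ∀ y ∈ E2, y * y = 1 ∧ y * z = z * y ∧ (cl y = 0 ∨ cl y = 2 ∨ y = 1) ∧
    x24 * y * x24 * y ≠ z ∧ y * x25 = x25 * y := forall_pat (by decide +kernel)
theorem chJ : ∀ y ∈ T0, x23 * (y * x23 * ti y) ∈ W0 → x34 * (y * x34 * ti y) ∈ W0 → y ∈ J0 :=
  forall_pat (by decide +kernel)
theorem decJ : ∀ y ∈ J0, ∃ n < 4, e l1 n * y ∈ R2 ∨ e l1 n * x13 * y ∈ R2 := forall_pat (by decide +kernel)

/-! ### normalization of the configuration -/

structure Tup (k1 a b k4 : HC) : Prop where
  m1 : k1 * x12 ∈ J0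
  m4 : k4 * x45 ∈ J0
  ma : x23 * a ∈ W0
  mb : x34 * b ∈ W0
  s1 : k1 * k1 = 1
  s4 : k4 * k4 = 1
  c14 : k1 * k4 = k4 * k1
  c1b : k1 * b = b * k1
  c4a : k4 * a = a * k4

def fin16 : List (ℕ × ℕ × ℕ × ℕ) := [(nat_lit 1024, nat_lit 131072, nat_lit 8388608, nat_lit 512), (nat_lit 1024, nat_lit 131072, nat_lit 8388608, nat_lit 33280), (nat_lit 1024, nat_lit 131072, nat_lit 8388640, nat_lit 512), (nat_lit 1024, nat_lit 131072, nat_lit 8388640, nat_lit 33280), (nat_lit 1024, nat_lit 131104, nat_lit 8388608, nat_lit 512), (nat_lit 1024, nat_lit 131104, nat_lit 8388608, nat_lit 33280), (nat_lit 1024, nat_lit 131104, nat_lit 8388640, nat_lit 512), (nat_lit 1024, nat_lit 131104, nat_lit 8388640, nat_lit 33280), (nat_lit 1280, nat_lit 131072, nat_lit 8388608, nat_lit 512), (nat_lit 1280, nat_lit 131072, nat_lit 8388608, nat_lit 33408), (nat_lit 1280, nat_lit 131072, nat_lit 8388640, nat_lit 512), (nat_lit 1280, nat_lit 131072, nat_lit 8388640, nat_lit 33408), (nat_lit 1280, nat_lit 131104,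 nat_lit 8388608, nat_lit 512), (nat_lit 1280, nat_lit 131104, nat_lit 8388608, nat_lit 33408), (nat_lit 1280, nat_lit 131104, nat_lit 8388640, nat_lit 512), (nat_lit 1280, nat_lit 131104, nat_lit 8388640, nat_lit 33408)]
def L1 : List ℕ := [nat_lit 0, nat_lit 128, nat_lit 131072, nat_lit 131200, nat_lit 4194304, nat_lit 4194432, nat_lit 4325376, nat_lit 4325504]
def L2 : List (ℕ × List ℕ) := [(nat_lit 1024, [nat_lit 0, nat_lit 256, nat_lit 32768, nat_lit 33024, nat_lit 1048576, nat_lit 1048832, nat_lit 1081344, nat_lit 1081600, nat_lit 8388608, nat_lit 8388864, nat_lit 8421376, nat_lit 8421632, nat_lit 9437184, nat_lit 9437440, nat_lit 9469952, nat_lit 9470208]), (nat_lit 1280, [nat_lit 0, nat_lit 256, nat_lit 32896, nat_lit 33152, nat_lit 1048576, nat_lit 1048832, nat_lit 1081472, nat_lit 1081728, nat_lit 8388608, nat_lit 8388864, nat_lit 8421504, nat_lit 8421760, nat_lit 9437184, nat_lit 9437440, nat_lit 9470080, nat_lit 9470336])]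

theorem xs : x12 * x12 = 1 ∧ x45 * x45 = 1 ∧ x23 * x23 = 1 ∧ x34 * x34 = 1 := by decide +kernel

theorem st1 : ∀ m < 256, e lJ m * x12 * (e lJ m * x12) = 1 → ∀ n < 256,
    e lJ n * x45 * (e lJ n * x45) = 1 →
    e lJ m * x12 * (e lJ n * x45) = e lJ n * x45 * (e lJ m * x12) →
      ∃ j ∈ L1, ∃ k ∈ L2, u j * (e lJ m * x12) * ti (u j) = u k.1 := by decide +kernel
theorem st1' : ∀ j ∈ L1, u j ∈ T0 ∧ (∀ n < 16, x23 * (u j * (x23 * e lW n) * ti (u j)) ∈ W0 ∧
    x34 * (u j * (x34 * e lW n) * ti (u j)) ∈ W0) ∧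
    ∀ m < 256, u j * (e lJ m * x45) * ti (u j) * x45 ∈ J0 := by decide +kernel
theorem st2 : ∀ k ∈ L2, (∀ j ∈ k.2, u j ∈ T0 ∧ u j * u k.1 * ti (u j) = u k.1) ∧
    ∀ m < 256, e lJ m * x45 * (e lJ m * x45) = 1 →
    u k.1 * (e lJ m * x45) = e lJ m * x45 * u k.1 → ∀ n < 16,
    e lJ m * x45 * (x23 * e lW n) = x23 * e lW n * (e lJ m * x45) → ∀ n' < 16,
    u k.1 * (x34 * e lW n') = x34 * e lW n' * u k.1 → ∃ j ∈ k.2, ∃ f ∈ fin16,
      k.1 = f.1 ∧ u j * (x23 * e lW n) * ti (u j) = u f.2.1 ∧
      u j * (x34 * e lW n') * ti (u j) = u f.2.2.1 ∧ u j * (e lJ m * x45) * ti (u j) = u f.2.2.2 := by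
  decide +kernel

theorem cosJ {k c : HC} (hc : c * c = 1) (h : k * c ∈ J0) : ∃ m < 256, k = e lJ m * c := by
  obtain ⟨m, h1, h2⟩ := okJ.enum h
  exact ⟨m, h1, by rw [← h2, mul_assoc, hc, mul_one]⟩
theorem cosW {k c : HC} (hc : c * c = 1) (h : c * k ∈ W0) : ∃ m < 16, k = c * e lW m := by
  obtain ⟨m, h1, h2⟩ := okW.enum h
  exact ⟨m, h1, by rw [← h2, ← mul_assoc, hc, one_mul]⟩

theorem Tup.norm {k1 a b k4 : HC} (h : Tup k1 a b k4) : ∃ j : HC, ∃ f ∈ fin16,
    j * k1 * j⁻¹ = u f.1 ∧ j * a * j⁻¹ = u f.2.1 ∧ j * b * j⁻¹ = u f.2.2.1 ∧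
      j * k4 * j⁻¹ = u f.2.2.2 := by
  obtain ⟨m1, a1, rfl⟩ := cosJ xs.1 h.m1
  obtain ⟨m4, a4, rfl⟩ := cosJ xs.2.1 h.m4
  obtain ⟨na, a2, rfl⟩ := cosW xs.2.2.1 h.ma
  obtain ⟨nb, a3, rfl⟩ := cosW xs.2.2.2 h.mb
  obtain ⟨j, b1, k, b2, b3⟩ := st1 m1 a1 h.s1 m4 a4 h.s4 h.c14
  obtain ⟨c1, c2, c3⟩ := st1' j b1
  rw [← inv_T c1] at b3 c2 c3
  obtain ⟨m, d1, d2⟩ := cosJ xs.2.1 (c3 m4 a4)
  obtain ⟨n, d3, d4⟩ := cosW xs.2.2.1 (c2 na a2).1
  obtain ⟨n', d5, d6⟩ := cosW xs.2.2.2 (c2 nb a3).2
  have cj : ∀ {p q : HC}, p * q = q * p → u j * p * (u j)⁻¹ * (u j * q * (u j)⁻¹) =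
      u j * q * (u j)⁻¹ * (u j * p * (u j)⁻¹) := fun {p q} h => by
    rw [conj_mul, conj_mul, h]
  obtain ⟨i, e1, f, e2, e3, e4, e5, e6⟩ := (st2 k b2).2 m d1
    (by rw [← d2, conj_mul, h.s4, mul_one, mul_inv_cancel]) (by rw [← d2, ← b3]; exact cj h.c14) n d3
    (by rw [← d2, ← d4]; exact cj h.c4a) n' d5 (by rw [← d6, ← b3]; exact cj h.c1b)
  obtain ⟨g1, g2⟩ := (st2 k b2).1 i e1
  rw [← inv_T g1] at g2 e4 e5 e6
  refine ⟨u i * u j, f, e2, ?_, ?_, ?_, ?_⟩
  · rw [← e3, ← g2, ← b3]; group
  · rw [← e4, ← d4]; group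
  · rw [← e5, ← d6]; group
  · rw [← e6, ← d2]; group

/-! ### facts for the final argument -/

noncomputable def s0 : HC := x12 * x45
def Dc (y : HC) : Prop := y * y = 1 ∧ (cl y = 0 ∨ cl y = 1 ∨ cl y = 2 ∨ cl y = 4)
noncomputable instance : DecidablePred Dc := fun _ => by unfold Dc; infer_instance
def InV (y : HC) : Prop := y = 1 ∨ y = t ∨ y = t1 ∨ y = t * t1
noncomputable instance : DecidablePred InV := fun _ => by unfold InV; infer_instance

theorem lemA : ∀ y ∈ T0, y * rp 5 = rp 5 * y → cl y = 5 → cl (y * rp 5) ≠ 5 :=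
  forall_pat (by decide +kernel)
theorem lemB : ∀ y ∈ T0, y * t = t * y → cl y = 5 → cl (y * t) = 5 → y = t1 ∨ y = t * t1 :=
  forall_pat (by decide +kernel)
theorem ctrS : ∀ y ∈ T0, y * s0 = s0 * y → y * x13 = x13 * y → y * x23 = x23 * y →
    y * x34 = x34 * y → y * x35 = x35 * y → y = 1 ∨ y = z ∨ cl y = 3 := forall_pat (by decide +kernel)
theorem kerV : ∀ y ∈ T0, y * t = t * y → InV y ∨ Dc y ∨ Dc (y * t) ∨ Dc (y * x13 * y * x13) ∨
    Dc (y * x23 * y * x23) ∨ Dc (y * x34 * y * x34) ∨
    Dc (y * (x23 * ti y * x23) * (x34 * (y * (x23 * ti y * x23)) * x34)) :=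
  forall_pat (by decide +kernel)
theorem quoV : ∀ y ∈ T0, y * t = t * y → y * t1 = t1 * y → InV (y * y) → InV y ∨ Dc y ∨ Dc (y * t) ∨
    Dc (y * t1) ∨ Dc (y * (t * t1)) := forall_pat (by decide +kernel)

end Cfsg.Agent.H1.He
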