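/-
The relative norm map for a group acting on an abelian group.
-/
import Cfsg.Agent.H1.Basic

namespace Cfsg.Agent.H1

open Subgroup

variable {L M : Type*} [Group L] [CommGroup M] [MulDistribMulAction L M]

/-- The norm `c ↦ ∏_{lT} l • c`. -/
noncomputable def relNorm [Finite L] (T : Subgroup L) : M →* M :=
  MonoidHom.mk' (fun c => ∏ᶠ q : L ⧸ T, q.out • c) fun a b => by
    simp only [smul_mul']
    exact finprod_mul_distrib (Set.toFinite _) (Set.toFinite _)

theorem relNorm_apply [Finite L] (T : Subgroup L) (c : M) :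
    relNorm T c = ∏ᶠ q : L ⧸ T, q.out • c := rfl

theorem smul_relNorm [Finite L] (T : Subgroup L) {c : M} (hc : ∀ t ∈ T, t • c = c) (l : L) :
    l • relNorm T c = relNorm T c := by
  rw [relNorm_apply, ← MulDistribMulAction.toMonoidHom_apply, MonoidHom.map_finprod _ (Set.toFinite _),
    ← finprod_comp_equiv (f := fun q : L ⧸ T => q.out • c) (MulAction.toPerm l)]
  refine finprod_congr fun q => ?_
  simp only [MulDistribMulAction.toMonoidHom_apply, MulAction.toPerm_apply]
  obtain ⟨t, ht⟩ := QuotientGroup.mk_out_eq_mul T (l * q.out)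
  rw [← QuotientGroup.out_eq' q, MulAction.Quotient.smul_coe, smul_eq_mul, QuotientGroup.out_eq' q,
    ht, mul_smul, hc t t.2, mul_smul]

theorem map_relNorm [Finite L] (T : Subgroup L) {M' : Type*} [CommGroup M'] (f : M →* M') {c : M}
    (hc : ∀ l : L, f (l • c) = f c) : f (relNorm T c) = f c ^ T.index := by
  classical
  have := Fintype.ofFinite (L ⧸ T)
  rw [relNorm_apply, MonoidHom.map_finprod _ (Set.toFinite _)]
  simp only [hc]
  rw [finprod_eq_prod_of_fintype, Finset.prod_const, Finset.card_univ, index_eq_card,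
    Nat.card_eq_fintype_card]

theorem relNorm_of_fixed [Finite L] (T : Subgroup L) {c : M} (hc : ∀ l : L, l • c = c) :
    relNorm T c = c ^ T.index := map_relNorm T (MonoidHom.id M) hc

theorem exists_pow_mul_eq_self {G : Type*} [Group G] {p k n : ℕ} [hp : Fact p.Prime] {x : G}
    (hx : x ^ p ^ k = 1) (hn : ¬ p ∣ n) : ∃ m : ℕ, (x ^ n) ^ m = x :=
  exists_pow_eq_self_of_coprime ((((Nat.Prime.coprime_iff_not_dvd hp.out).2 hn).symm.pow_right
    k).coprime_dvd_right (orderOf_dvd_of_pow_eq_one hx))

end Cfsg.Agent.H1
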