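/-
Characteristic subgroups of exponent `p` (or `4`) detecting `p'`-automorphisms.
-/
import Cfsg.Agent.H1.NormalInF
import Cfsg.Agent.H1.Frobenius

namespace Cfsg.Agent.H1

open Subgroup
open scoped commutatorElement

variable {G : Type*} [Group G] [Finite G] {p : ℕ} [hp : Fact p.Prime]

theorem exists_char_small_exponent (hG : IsPGroup p G) :
    ∃ D : Subgroup G, D.Characteristic ∧ (∀ x ∈ D, x ^ p = 1 ∨ (p = 2 ∧ x ^ 4 = 1)) ∧
      ⁅D, (⊤ : Subgroup G)⁆ ≤ D ⊓ centralizer (D : Set G) ∧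
      ∀ (a : MulAut G) (m : ℕ), a ^ m = 1 → m.Coprime p → (∀ x ∈ D, a x = x) → a = 1 := by
  by_cases hp2 : p = 2
  swap
  · obtain ⟨D, h1, h2, h3, h4⟩ := H2.exists_char_exponent_p_faithful hp2 hG
    exact ⟨D, h1, fun x hx => Or.inl (h2 x hx), h3, h4⟩
  subst hp2
  obtain ⟨H, hc, h1, h2, h3⟩ := H2.exists_critical hG
  have h4 : ∀ x ∈ H, ∀ g : G, ⁅x, g⁆ ∈ H ∧ ∀ y ∈ H, Commute y ⁅x, g⁆ := fun x hx g =>
    mem_inf.mp (h2 (commutator_mem_commutator hx (mem_top g)))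
  have h5 : ∀ x ∈ H, ∀ y ∈ H, ⁅y, x⁆ ^ 2 = 1 := fun x hx y hy => by
    rw [← H2.commutator_pow_left_of_commute ((h4 y hy x).2 y hy),
      commutatorElement_eq_one_iff_mul_comm]
    exact (h1 y hy x hx).symm
  have h6 : ∀ x ∈ H, ∀ y ∈ H, (x * y) ^ 4 = x ^ 4 * y ^ 4 := fun x hx y hy => by
    rw [H2.mul_pow_of_commute_commutator ((h4 y hy x).2 x hx) ((h4 y hy x).2 y hy),
      show Nat.choose 4 2 = 2 * 3 from rfl, pow_mul, h5 x hx y hy, one_pow, mul_one]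
  let D : Subgroup G :=
    { carrier := {x | x ∈ H ∧ x ^ 4 = 1}
      one_mem' := ⟨one_mem _, one_pow _⟩
      mul_mem' := fun {a b} ha hb => ⟨mul_mem ha.1 hb.1, by
        rw [h6 a ha.1 b hb.1, ha.2, hb.2, one_mul]⟩
      inv_mem' := fun {a} ha => ⟨inv_mem ha.1, by rw [inv_pow, ha.2, inv_one]⟩ }
  refine ⟨D, ?_, fun x hx => Or.inr ⟨rfl, hx.2⟩, ?_, fun a m hm hmc ha => ?_⟩
  · rw [characteristic_iff_le_comap]
    rintro f x ⟨hx1, hx2⟩
    exact ⟨characteristic_iff_le_comap.mp hc f hx1, by rw [← map_pow, hx2, map_one]⟩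
  · rw [commutator_le]
    rintro x ⟨hx1, hx2⟩ g -
    refine mem_inf.mpr ⟨⟨(h4 x hx1 g).1, ?_⟩, fun y hy => (h4 x hx1 g).2 y hy.1⟩
    rw [← H2.commutator_pow_left_of_commute ((h4 x hx1 g).2 x hx1), hx2,
      commutatorElement_one_left]
  refine H2.mulAut_eq_one_of_fixes_self_centralizing hG h3 hm hmc fun x hx => ?_
  have haH : ∀ x ∈ H, a x ∈ H := fun x hx => characteristic_iff_le_comap.mp hc a hx
  have hCc : (centralizer (H : Set G)).Characteristic := inferInstance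
  have h7 : ∀ z ∈ centralizer (H : Set G), a z = z :=
    H2.mulAut_fixes_of_pow_hom (H := centralizer (H : Set G)) hG
      (fun x hx y hy => Commute.mul_pow (hy x (h3 hx)) 2)
      (fun x hx => characteristic_iff_le_comap.mp hCc a hx) hm hmc
      fun z hz hz2 => ha z ⟨h3 hz, by rw [show 4 = 2 * 2 from rfl, pow_mul, hz2, one_pow]⟩
  have h8 : (x⁻¹ * a x) ^ 4 = 1 := by
    rw [h6 _ (inv_mem hx) _ (haH x hx), ← map_pow, show 4 = 2 * 2 from rfl, pow_mul x, map_pow,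
      h7 _ (h1 x hx), inv_pow, pow_mul, inv_mul_cancel]
  exact H2.mulAut_apply_eq_of_coprime hm (ha _ ⟨mul_mem (inv_mem hx) (haH x hx), h8⟩) h8
    (hmc.pow_right 2)

theorem exists_small_exponent_le {D : Subgroup G} (hD : IsPGroup p D) :
    ∃ E ≤ D, normalizer (D : Set G) ≤ normalizer (E : Set G) ∧
      (∀ x ∈ E, x ^ p = 1 ∨ (p = 2 ∧ x ^ 4 = 1)) ∧
      ∀ g ∈ normalizer (D : Set G), (orderOf g).Coprime p → g ∈ centralizer (E : Set G) →
        g ∈ centralizer (D : Set G) := by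
  obtain ⟨E, h1, h2, -, h4⟩ := exists_char_small_exponent hD
  refine ⟨E.map D.subtype, map_subtype_le _, L.normalizer_le_normalizer_map_subtype E, ?_,
    fun g hg hgp hgE x hx => ?_⟩
  · rintro _ ⟨x, hx, rfl⟩
    simpa only [← coe_pow, coe_subtype, OneMemClass.coe_eq_one] using h2 x hx
  have := h4 (D.normalizerMonoidHom ⟨g, hg⟩) (orderOf g) (by
    rw [← map_pow, show (⟨g, hg⟩ : normalizer (D : Set G)) ^ orderOf g = 1 from
      Subtype.ext (pow_orderOf_eq_one g), map_one]) hgp fun y hy => Subtype.ext (by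
      show g * y * g⁻¹ = y
      rw [mul_inv_eq_iff_eq_mul]
      exact (hgE y ⟨y, hy, rfl⟩).symm)
  have h5 : g * x * g⁻¹ = x := congrArg (fun a : MulAut D => (a ⟨x, hx⟩ : G)) this
  exact (mul_inv_eq_iff_eq_mul.1 h5).symm

omit hp in
theorem mem_centralizer_of_asc_chain {U : ℕ → Subgroup G} {D : Subgroup G} (hD : IsPGroup p D)
    (hU : ∀ i, U i ≤ D) (h0 : U 0 = ⊥) {g : G} (hg : (orderOf g).Coprime p)
    (h : ∀ i, ∀ x ∈ U (i + 1), ⁅x, g⁆ ∈ U i) (n : ℕ) : g ∈ centralizer (U n : Set G) := by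
  induction n with
  | zero => intro x hx; rw [h0] at hx; simp [mem_bot.1 hx]
  | succ k ih =>
    intro x hx
    have h1 := h _ x hx
    obtain ⟨j, hj⟩ := isPGroup_iff_mem.1 hD _ (hU _ h1)
    exact (commute_of_commute_commutator hj hg (ih _ h1).symm).symm

end Cfsg.Agent.H1
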